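import Cfsg.Agent.CN7.Basic
import Cfsg.Agent.Lib.Coprime.Action

/-!
Quotients of CN groups by solvable normal subgroups are CN groups.
-/

set_option autoImplicit false

namespace Cfsg.Agent.CN7

universe u

variable {G : Type u} [Group G]

theorem isCN_of_mulEquiv {K : Type*} [Group K] (e : G ≃* K) (hCN : IsCNGroup G) : IsCNGroup K := by
  intro k hk
  have h := hCN (e.symm k) (by simpa using hk)
  refine Fitting.isNilpotent_of_le (isNilpotent_map_of_injective e.toMonoidHom h) fun x hx => ?_
  refine ⟨e.symm x, Subgroup.mem_centralizer_singleton_iff.2 ?_, e.apply_symm_apply x⟩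
  rw [← map_mul, ← map_mul, Subgroup.mem_centralizer_singleton_iff.1 hx]

variable [Finite G]

/-- The core case: `H` a normal `p`-subgroup, `x` an element of order `p` modulo `H` and central
modulo `H`; then the CN group is nilpotent. -/
theorem isNilpotent_of_central_mod (hCN : IsCNGroup G) {p : ℕ} [hp : Fact p.Prime] (H : Subgroup G)
    [H.Normal] (hH : IsPGroup p H) (hne : H ≠ ⊥) {x : G} (hx : x ∉ H) (hxp : x ^ p ∈ H)
    (hfix : ∀ g : G, g * x * g⁻¹ * x⁻¹ ∈ H) : Group.IsNilpotent G := by
  obtain ⟨n, hn⟩ := hH.exists_card_eq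
  have hxo : IsPGroup p (Subgroup.zpowers x) := by
    have h1 : x ^ (p * p ^ n) = 1 := by
      rw [pow_mul, ← hn]
      exact congrArg Subtype.val (pow_card_eq_one' (x := (⟨x ^ p, hxp⟩ : H)))
    obtain ⟨k, -, hk⟩ := (Nat.dvd_prime_pow hp.out).1
      (show orderOf x ∣ p ^ (n + 1) by rw [pow_succ']; exact orderOf_dvd_of_pow_eq_one h1)
    exact IsPGroup.of_card (n := k) (by rw [Nat.card_zpowers, hk])
  obtain ⟨P, hP⟩ := (hH.to_sup_of_normal_left hxo).exists_le_sylow
  have hHP : H ≤ P := le_sup_left.trans hP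
  have hxP : x ∈ P := hP (Subgroup.mem_sup_right (Subgroup.mem_zpowers x))
  obtain ⟨z, hzH, hz1, hzc⟩ := exists_central_mem (K := (P : Subgroup G)) P.2.isNilpotent hHP
    (by rw [Subgroup.normalizer_eq_top_iff.2 inferInstance]; exact le_top) hne
  obtain ⟨j, hj⟩ := exists_orderOf_prime_pow P.2 (hHP hzH)
  set L := Subgroup.centralizer ({z} : Set G) with hL
  suffices hLtop : L = ⊤ from Group.isNilpotent_top.1 (hLtop ▸ hCN z hz1)
  rw [← Subgroup.index_eq_one]
  by_contra hi
  obtain ⟨q, hq, hqd⟩ := Nat.exists_prime_and_dvd hi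
  haveI := Fact.mk hq
  obtain ⟨Q, hQ⟩ : ∃ Q : Sylow q G, (Q : Subgroup G) ≤ L := by
    rcases eq_or_ne q p with rfl | hqp
    · exact ⟨P, fun w hw =>
        Subgroup.mem_centralizer_singleton_iff.2 (commute_of_le_centralizer hzc hw)⟩
    refine ⟨default, fun y hy => ?_⟩
    obtain ⟨k, hk⟩ := exists_orderOf_prime_pow (default : Sylow q G).2 hy
    have hcop : (Nat.card (Subgroup.zpowers y)).Coprime (Nat.card H) := by
      rw [Nat.card_zpowers, hk, hn]
      exact ((Nat.coprime_primes hq hp.out).2 hqp).pow k n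
    obtain ⟨m, hm, hc⟩ := Coprime.exists_fixed_in_coset_of_normal (Subgroup.zpowers y) H
      (by rw [Subgroup.normalizer_eq_top_iff.2 inferInstance]; exact le_top) hcop
      (Or.inl (by open scoped IsMulCommutative in infer_instance)) x
      (by rw [Subgroup.normalizer_eq_top_iff.2 inferInstance]; trivial) (fun a _ => hfix a)
    have hx1 : x * m ≠ 1 := fun h => hx (by
      rw [mul_eq_one_iff_eq_inv] at h
      rw [h]; exact H.inv_mem hm)
    exact Subgroup.mem_centralizer_singleton_iff.2 (commute_of_common hCN hx1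
      (commute_of_le_centralizer hc (Subgroup.mem_zpowers y)).symm
      (commute_of_le_centralizer hzc (mul_mem hxP (hHP hm)))
      (coprime_orders hq hp.out hqp hk hj))
  exact Q.not_dvd_index (hqd.trans (Subgroup.index_dvd_of_le hQ))

/-- The quotient of a CN group by a normal `p`-subgroup is a CN group. -/
theorem isCN_quotient_pgroup (hCN : IsCNGroup G) {p : ℕ} [hp : Fact p.Prime] (H : Subgroup G)
    [H.Normal] (hH : IsPGroup p H) : IsCNGroup (G ⧸ H) := by
  rcases eq_or_ne H ⊥ with rfl | hne
  · exact isCN_of_mulEquiv QuotientGroup.quotientBot.symm hCN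
  intro u hu
  obtain ⟨r, hr, -, i, hi⟩ := exists_prime_power_elt hu
  refine Fitting.isNilpotent_of_le (K := Subgroup.centralizer ({u ^ i} : Set (G ⧸ H))) ?_
    fun w hw => Subgroup.mem_centralizer_singleton_iff.2
      ((show Commute w u from Subgroup.mem_centralizer_singleton_iff.1 hw).pow_right i)
  obtain ⟨x, hx⟩ := QuotientGroup.mk'_surjective H (u ^ i)
  rw [← hx] at hi ⊢
  have hxH : x ∉ H := fun h => hr.ne_one (by
    rw [← hi, QuotientGroup.mk'_apply, (QuotientGroup.eq_one_iff x).2 h, orderOf_one])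
  have hxr : x ^ r ∈ H := (QuotientGroup.eq_one_iff _).1 (by
    rw [QuotientGroup.mk_pow, ← QuotientGroup.mk'_apply, ← hi, pow_orderOf_eq_one])
  set C := Subgroup.centralizer ({QuotientGroup.mk' H x} : Set (G ⧸ H)) with hC
  set K := C.comap (QuotientGroup.mk' H) with hK
  have hKC : ∀ k ∈ K, Commute (QuotientGroup.mk' H k) (QuotientGroup.mk' H x) := fun k hk =>
    Subgroup.mem_centralizer_singleton_iff.1 (Subgroup.mem_comap.1 hk)
  have hCK : C = K.map (QuotientGroup.mk' H) :=
    (Subgroup.map_comap_eq_self_of_surjective (QuotientGroup.mk'_surjective H) _).symm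
  rcases eq_or_ne r p with rfl | hrp
  · have hHK : H ≤ K := fun h hh => Subgroup.mem_comap.2 (by
      rw [QuotientGroup.mk'_apply, (QuotientGroup.eq_one_iff h).2 hh]; exact C.one_mem)
    have hxK : x ∈ K := Subgroup.mem_comap.2 (Subgroup.mem_centralizer_singleton_iff.2 rfl)
    rw [hCK]
    refine isNilpotent_map_of_injective _ (isNilpotent_of_central_mod (isCN_subgroup hCN K)
      (H.subgroupOf K) (p := r) (x := ⟨x, hxK⟩) ?_ ?_ ?_ ?_ ?_)
    · exact hH.comap_subtype
    · exact fun h => hne (by
        have := Subgroup.subgroupOf_eq_bot.1 h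
        rwa [disjoint_iff, inf_eq_left.2 hHK] at this)
    · exact fun h => hxH (Subgroup.mem_subgroupOf.1 h)
    · exact Subgroup.mem_subgroupOf.2 hxr
    · intro g
      refine Subgroup.mem_subgroupOf.2 ((QuotientGroup.eq_one_iff _).1 ?_)
      show QuotientGroup.mk' H ((g : G) * x * (g : G)⁻¹ * x⁻¹) = 1
      rw [map_mul, map_mul, map_mul, map_inv, map_inv, (hKC g g.2).eq, mul_inv_cancel_right,
        mul_inv_cancel]
  · obtain ⟨n, hn⟩ := hH.exists_card_eq
    have hcp : (p ^ n).Coprime r := ((Nat.coprime_primes hp.out hr).2 (Ne.symm hrp)).pow_left n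
    set x' := x ^ p ^ n with hx'
    have hx'1 : x' ≠ 1 := fun h => hxH (BGUniq.mem_of_pow_mem_of_coprime
      (show x ^ p ^ n ∈ H by rw [← hx', h]; exact H.one_mem) hxr hcp)
    have hx'r : x' ^ r = 1 := by
      rw [hx', ← pow_mul, mul_comm, pow_mul, ← hn]
      exact congrArg Subtype.val (pow_card_eq_one' (x := (⟨x ^ r, hxr⟩ : H)))
    haveI := Fact.mk hr
    have hx'o : orderOf x' = r := orderOf_eq_prime hx'r hx'1
    have key : C ≤ (Subgroup.centralizer ({x'} : Set G)).map (QuotientGroup.mk' H) := by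
      rw [hCK]
      rintro _ ⟨k, hk, rfl⟩
      have hfix : ∀ a ∈ Subgroup.zpowers x', a * k * a⁻¹ * k⁻¹ ∈ H := by
        intro a ha
        obtain ⟨e, rfl⟩ := Subgroup.mem_zpowers_iff.1 ha
        refine (QuotientGroup.eq_one_iff _).1 ?_
        show QuotientGroup.mk' H (x' ^ e * k * (x' ^ e)⁻¹ * k⁻¹) = 1
        have hc : Commute (QuotientGroup.mk' H (x' ^ e)) (QuotientGroup.mk' H k) := by
          rw [map_zpow, hx', map_pow]
          exact ((hKC k hk).symm.pow_left _).zpow_left _
        rw [map_mul, map_mul, map_mul, map_inv, map_inv, hc.eq, mul_inv_cancel_right,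
          mul_inv_cancel]
      obtain ⟨m, hm, hc⟩ := Coprime.exists_fixed_in_coset_of_normal (Subgroup.zpowers x') H
        (by rw [Subgroup.normalizer_eq_top_iff.2 inferInstance]; exact le_top)
        (by rw [Nat.card_zpowers, hx'o, hn]; exact hcp.symm)
        (Or.inl (by open scoped IsMulCommutative in infer_instance)) k
        (by rw [Subgroup.normalizer_eq_top_iff.2 inferInstance]; trivial) hfix
      exact ⟨k * m, Subgroup.mem_centralizer_singleton_iff.2
        (commute_of_le_centralizer hc (Subgroup.mem_zpowers x')).eq.symm,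
        by rw [map_mul, QuotientGroup.mk'_apply, QuotientGroup.mk'_apply,
          (QuotientGroup.eq_one_iff m).2 hm, mul_one]⟩
    exact Fitting.isNilpotent_of_le (isNilpotent_map_of_injective _ (hCN x' hx'1)) key

theorem isCN_quotient_solvable_aux (n : ℕ) :
    ∀ (G : Type u) [Group G] [Finite G], IsCNGroup G → ∀ (H : Subgroup G) [H.Normal],
      Group.IsSolvable H → Nat.card H = n → IsCNGroup (G ⧸ H) := by
  induction n using Nat.strong_induction_on with
  | _ n ih =>
    intro G _ _ hCN H _ hH hn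
    rcases eq_or_ne H ⊥ with rfl | hne
    · exact isCN_of_mulEquiv QuotientGroup.quotientBot.symm hCN
    obtain ⟨M, hM, hMH⟩ := Fitting.exists_isMinNormal_le (N := H) inferInstance hne
    haveI := Coprime.solvable_of_le hMH hH
    haveI := hM.isMulCommutative
    obtain ⟨p, hp, hel⟩ := hM.exists_isElementaryAbelian
    haveI := Fact.mk hp
    haveI : M.Normal := hM.1
    have hCN1 := isCN_quotient_pgroup hCN M (Fitting.isPGroup_of_isElementaryAbelian hel)
    haveI : (H.map (QuotientGroup.mk' M)).Normal :=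
      Subgroup.Normal.map inferInstance _ (QuotientGroup.mk'_surjective M)
    have hlt : Nat.card (H.map (QuotientGroup.mk' M)) < n := by
      have h1 := Subgroup.relIndex_mul_relIndex ⊥ M H bot_le hMH
      rw [Subgroup.relIndex_bot_left, Subgroup.relIndex_bot_left, hn] at h1
      rw [← Subgroup.relIndex_ker, QuotientGroup.ker_mk']
      have h2 : 1 < Nat.card M := Subgroup.one_lt_card_iff_ne_bot M |>.2 hM.2.1
      have h3 : 0 < M.relIndex H := Nat.pos_of_ne_zero fun h => by
        rw [h, mul_zero] at h1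
        exact (Nat.card_pos (α := H)).ne' (hn.trans h1.symm)
      rw [← h1]
      exact lt_mul_left h3 h2
    haveI := hH
    have hsol : Group.IsSolvable ↥(H.map (QuotientGroup.mk' M)) :=
      Group.isSolvable_of_surjective (MonoidHom.subgroupMap_surjective (QuotientGroup.mk' M) H)
    exact isCN_of_mulEquiv (QuotientGroup.quotientQuotientEquivQuotient M H hMH)
      (ih _ hlt (G ⧸ M) hCN1 (H.map (QuotientGroup.mk' M)) hsol rfl)

/-- The quotient of a CN group by a solvable normal subgroup is a CN group. -/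
theorem isCN_quotient_solvable (hCN : IsCNGroup G) (H : Subgroup G) [H.Normal]
    (hH : Group.IsSolvable H) : IsCNGroup (G ⧸ H) :=
  isCN_quotient_solvable_aux _ G hCN H hH rfl

end Cfsg.Agent.CN7
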