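import Cfsg.Agent.CN7.MaxNil
import Cfsg.Agent.CN7.Quotient
import Cfsg.Agent.Lib.Thompson.Cores
import Cfsg.Agent.Lib.Frobenius.Complement
import Cfsg.Prelude.Def_OddOrderLocal

/-!
A CN group with `O_p ≠ 1` and a non-normal Sylow `p`-subgroup.
-/

set_option autoImplicit false

namespace Cfsg.Agent.CN7

variable {G : Type*} [Group G]

/-- `O_p(G) ≠ 1` and no Sylow `p`-subgroup is normal. -/
def Bad (p : ℕ) (G : Type*) [Group G] : Prop :=
  pCore p G ≠ ⊥ ∧ ∀ P : Sylow p G, ¬ (P : Subgroup G).Normal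

/-- Lift a subgroup of coprime order from a quotient. -/
theorem exists_lift [Finite G] (Q : Subgroup G) [Q.Normal] (B : Subgroup (G ⧸ Q))
    (hcop : (Nat.card Q).Coprime (Nat.card B)) :
    ∃ B0 : Subgroup G, B0.map (QuotientGroup.mk' Q) = B ∧ Nat.card B0 = Nat.card B ∧
      Q ⊔ B0 = B.comap (QuotientGroup.mk' Q) := by
  set K := B.comap (QuotientGroup.mk' Q) with hK
  have hQK : Q ≤ K := fun x hx => Subgroup.mem_comap.2 (by
    rw [QuotientGroup.mk'_apply, (QuotientGroup.eq_one_iff x).2 hx]; exact B.one_mem)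
  have hcK : Nat.card K = Nat.card B * Nat.card Q := Thompson.card_comap_quotient Q B
  have hcQ : Nat.card (Q.subgroupOf K) = Nat.card Q :=
    Nat.card_congr (Subgroup.subgroupOfEquivOfLe hQK).toEquiv
  have hidx : (Q.subgroupOf K).index = Nat.card B := by
    have h1 := (Q.subgroupOf K).card_mul_index
    rw [hcQ, hcK, mul_comm (Nat.card B)] at h1
    exact Nat.eq_of_mul_eq_mul_left Nat.card_pos h1
  obtain ⟨E, hE⟩ := Subgroup.exists_right_complement'_of_coprime (N := Q.subgroupOf K)
    (by rw [hcQ, hidx]; exact hcop)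
  have hsup : Q ⊔ E.map K.subtype = K := by
    have h1 := congrArg (Subgroup.map K.subtype) hE.sup_eq_top
    rwa [Subgroup.map_sup, Subgroup.subgroupOf_map_subtype, inf_eq_left.2 hQK,
      ← MonoidHom.range_eq_map, Subgroup.range_subtype] at h1
  refine ⟨E.map K.subtype, ?_, ?_, hsup⟩
  · have h2 := congrArg (Subgroup.map (QuotientGroup.mk' Q)) hsup
    rw [Subgroup.map_sup, QuotientGroup.map_mk'_self, bot_sup_eq] at h2
    exact h2.trans (Subgroup.map_comap_eq_self_of_surjective (QuotientGroup.mk'_surjective Q) B)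
  · rw [Subgroup.card_map_of_injective K.subtype_injective, ← hidx]
    exact hE.symm.index_eq_card.symm

variable [Finite G] {p : ℕ} [hp : Fact p.Prime]

/-- In the bad situation no element of order prime to `p` centralizes a non-identity element of
`O_p`. -/
theorem eq_one_of_commute_pCore (hCN : IsCNGroup G) (hbad : Bad p G) {q y : G}
    (hq : q ∈ pCore p G) (hq1 : q ≠ 1) (hy : (orderOf y).Coprime p) (hc : Commute q y) :
    y = 1 := by
  by_contra hy1
  have hqne : ∀ R : Sylow p G, (R : Subgroup G) ≠ ⊥ := fun R h => hq1 (by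
    rw [← Subgroup.mem_bot (G := G), ← h]; exact Thompson.pCore_le_sylow R hq)
  have key : ∀ R : Sylow p G, (R : Subgroup G) ≤ Subgroup.centralizer ({y} : Set G) := by
    intro R u hu
    obtain ⟨z, hzR, hz1, hzc⟩ := exists_center_mem (K := (R : Subgroup G)) R.2.isNilpotent
      (hqne R)
    obtain ⟨j, hj⟩ := exists_orderOf_prime_pow R.2 hzR
    obtain ⟨i, hi⟩ := exists_orderOf_prime_pow R.2 hu
    have hzy : Commute z y := commute_of_common hCN hq1
      (commute_of_le_centralizer hzc (Thompson.pCore_le_sylow R hq)) hc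
      (by rw [hj]; exact (hy.pow_right j).symm)
    exact Subgroup.mem_centralizer_singleton_iff.2 (commute_of_common hCN hz1
      (commute_of_le_centralizer hzc hu).symm hzy (by rw [hi]; exact (hy.pow_right i).symm))
  haveI : Subsingleton (Sylow p G) :=
    ⟨fun P R => sylow_eq_of_le_nilpotent (hCN y hy1) (key P) (key R)⟩
  exact hbad.2 default (Sylow.normal_of_subsingleton (default : Sylow p G))

/-- In the bad situation a subgroup of order prime to `p` acts without fixed points on `O_p`. -/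
theorem isFPF_of_coprime (hCN : IsCNGroup G) (hbad : Bad p G) {A : Subgroup G}
    (hA : (Nat.card A).Coprime p) : Frobenius.IsFPF A (pCore p G) := by
  refine Frobenius.isFPF_of_normal fun a ha ha1 => ?_
  rw [Subgroup.eq_bot_iff_forall]
  rintro q ⟨hq, hqc⟩
  by_contra hq1
  exact ha1 (eq_one_of_commute_pCore hCN hbad hq hq1
    (hA.coprime_dvd_left (Subgroup.orderOf_dvd_natCard A ha))
    (Subgroup.mem_centralizer_singleton_iff.1 hqc))

theorem pPrimeCore_eq_bot (hCN : IsCNGroup G) (hbad : Bad p G) : pPrimeCore p G = ⊥ := by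
  rw [Subgroup.eq_bot_iff_forall]
  intro y hy
  obtain ⟨q, hq, hq1⟩ := (pCore p G).bot_or_exists_ne_one.resolve_left hbad.1
  exact eq_one_of_commute_pCore hCN hbad hq hq1
    (Thompson.card_pPrimeCore_coprime.coprime_dvd_left (Subgroup.orderOf_dvd_natCard _ hy))
    (Subgroup.mem_centralizer_iff.1 (Thompson.pPrimeCore_le_centralizer_pCore hy) q hq)

/-- `O_p A` contains no Sylow subgroup when `A` has order prime to `p`. -/
theorem not_sylow_le (hbad : Bad p G) {A : Subgroup G} (hA : (Nat.card A).Coprime p)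
    (P : Sylow p G) : ¬ (P : Subgroup G) ≤ pCore p G ⊔ A := by
  intro hle
  obtain ⟨n, hn⟩ := P.2.exists_card_eq
  have h1 : Nat.card (P : Subgroup G) ∣ Nat.card (pCore p G) :=
    Nat.Coprime.dvd_of_dvd_mul_right (by rw [hn]; exact (hA.pow_right n).symm)
      ((Subgroup.card_dvd_of_le hle).trans
        (by rw [sup_comm, mul_comm]; exact Thompson.card_sup_dvd_mul A (pCore p G)))
  have h2 : pCore p G = (P : Subgroup G) := Subgroup.eq_of_le_of_card_ge
    (Thompson.pCore_le_sylow P) (Nat.le_of_dvd Nat.card_pos h1)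
  exact hbad.2 P (h2 ▸ inferInstance)

/-- The structure of a solvable bad CN group: it is a three-step group. -/
theorem bad_structure [Group.IsSolvable G] (hCN : IsCNGroup G) (hbad : Bad p G) :
    ∃ A : Subgroup G, A ≠ ⊥ ∧ IsCyclic A ∧ Odd (Nat.card A) ∧ (Nat.card A).Coprime p ∧
      (pCore p G ⊔ A).Normal ∧ commutator G ≤ pCore p G ⊔ A ∧
      (∃ n : ℕ, (pCore p G ⊔ A).index = p ^ n) ∧
      (∀ a ∈ A, a ≠ 1 → pCore p G ⊓ Subgroup.centralizer ({a} : Set G) = ⊥) ∧
      ∀ x : G, x ∉ pCore p G ⊔ A → ∀ a ∈ A, a ≠ 1 → x * a * x⁻¹ * a⁻¹ ∉ pCore p G := by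
  set Q := pCore p G with hQ
  set π := QuotientGroup.mk' Q with hπ
  have hQp : IsPGroup p Q := Thompson.isPGroup_pCore
  obtain ⟨nQ, hnQ⟩ := hQp.exists_card_eq
  have hCN' : IsCNGroup (G ⧸ Q) := isCN_quotient_pgroup hCN Q hQp
  have hcore : pCore p (G ⧸ Q) = ⊥ := Thompson.pCore_quotient_pCore
  set F := fittingSubgroup (G ⧸ Q) with hF
  have hFnil : Group.IsNilpotent F := Fitting.fitting_isNilpotent
  have hFcop : (Nat.card F).Coprime p := by
    rw [Nat.coprime_comm, Nat.Prime.coprime_iff_not_dvd hp.out]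
    intro hd
    set S : Sylow p F := default
    haveI := Transfer.nilpotent_sylow_normal hFnil S
    haveI : (S : Subgroup F).Characteristic := Sylow.characteristic_of_normal S inferInstance
    have hle : (S : Subgroup F).map F.subtype ≤ pCore p (G ⧸ Q) :=
      Thompson.le_pCore (Thompson.map_subtype_normal_of_characteristic F _) (S.2.map _)
    rw [hcore, le_bot_iff, Subgroup.map_eq_bot_iff_of_injective _ F.subtype_injective] at hle
    exact S.ne_bot_of_dvd_card hd hle
  -- lifts of subgroups of order prime to `p`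
  have lift : ∀ B : Subgroup (G ⧸ Q), (Nat.card B).Coprime p →
      ∃ (B0 : Subgroup G) (e : B0 ≃* B), (∀ b : B0, (e b : G ⧸ Q) = π b) ∧
        Nat.card B0 = Nat.card B ∧ Q ⊔ B0 = B.comap π ∧ Frobenius.IsFPF B0 Q := by
    intro B hB
    obtain ⟨B0, hmap, hcard, hsup⟩ := exists_lift Q B (by rw [hnQ]; exact (hB.pow_right nQ).symm)
    have hbij : Function.Bijective (π.subgroupMap B0) :=
      (Nat.bijective_iff_surjective_and_card _).2
        ⟨MonoidHom.subgroupMap_surjective π B0, by rw [hmap, hcard]⟩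
    exact ⟨B0, (MulEquiv.ofBijective _ hbij).trans (MulEquiv.subgroupCongr hmap),
      fun _ => rfl, hcard, hsup, isFPF_of_coprime hCN hbad (hcard ▸ hB)⟩
  obtain ⟨A, e, he, hcard, hsup, hfpf⟩ := lift F hFcop
  haveI := hFnil
  haveI hAnil : Group.IsNilpotent A := Group.nilpotent_of_mulEquiv e.symm
  have hsupN : (Q ⊔ A).Normal := hsup ▸ inferInstance
  have hnotle : ∀ P : Sylow p G, ¬ (P : Subgroup G) ≤ Q ⊔ A :=
    not_sylow_le hbad (hcard ▸ hFcop)
  have hF1 : F ≠ ⊥ := by
    intro h
    have hc : Subgroup.centralizer (F : Set (G ⧸ Q)) ≤ F := Fitting.centralizer_fitting_le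
    rw [h, le_bot_iff, Subgroup.coe_bot] at hc
    have htop : ∀ g : G ⧸ Q, g = 1 := fun g =>
      Subgroup.mem_bot.1 (hc ▸ Subgroup.mem_centralizer_iff.2 fun x hx => by
        rw [Set.mem_singleton_iff.1 hx, one_mul, mul_one])
    exact hnotle default fun x _ =>
      Subgroup.mem_sup_left ((QuotientGroup.eq_one_iff x).1 (htop _))
  have hA1 : A ≠ ⊥ := fun h => hF1 (Subgroup.card_eq_one.1 (by
    rw [← hcard, h, Subgroup.card_bot]))
  -- `A` has odd order
  have hAodd : ¬ 2 ∣ Nat.card A := by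
    intro h2
    obtain ⟨⟨t, htA, ht, huniq, -⟩, -⟩ := hfpf.unique_involution hbad.1 h2
    have ht1 : t ≠ 1 := fun h => by rw [h, orderOf_one] at ht; omega
    set tb := e ⟨t, htA⟩ with htb
    have htb1 : (tb : G ⧸ Q) ≠ 1 := fun h => ht1 (by
      have : tb = 1 := Subtype.ext h
      rw [htb, MulEquiv.map_eq_one_iff] at this
      exact congrArg Subtype.val this)
    have hcentral : ∀ g : G ⧸ Q, g * tb = tb * g := by
      intro g
      set u : F := ⟨g * tb * g⁻¹, Fitting.fitting_normal.conj_mem _ tb.2 g⟩ with hu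
      have huo : orderOf ((e.symm u : A) : G) = 2 := by
        have h1 : orderOf (g * (tb : G ⧸ Q) * g⁻¹) = orderOf (tb : G ⧸ Q) :=
          orderOf_injective (MulAut.conj g).toMonoidHom (MulAut.conj g).injective (tb : G ⧸ Q)
        rw [Subgroup.orderOf_coe, MulEquiv.orderOf_eq, hu, Subgroup.orderOf_mk, h1,
          Subgroup.orderOf_coe, htb, MulEquiv.orderOf_eq, Subgroup.orderOf_mk, ht]
      have h3 : e.symm u = ⟨t, htA⟩ := Subtype.ext (huniq _ (e.symm u).2 huo)
      have h4 : u = tb := by rw [htb, ← h3, MulEquiv.apply_symm_apply]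
      exact mul_inv_eq_iff_eq_mul.1 (congrArg Subtype.val h4)
    have hnil : Group.IsNilpotent (G ⧸ Q) := Group.isNilpotent_top.1
      (Fitting.isNilpotent_of_le (hCN' _ htb1) fun g _ =>
        Subgroup.mem_centralizer_singleton_iff.2 (hcentral g))
    set P : Sylow p G := default
    set S := P.mapSurjective (QuotientGroup.mk'_surjective Q) with hS
    haveI := Transfer.nilpotent_sylow_normal hnil S
    have hle : (S : Subgroup (G ⧸ Q)) ≤ pCore p (G ⧸ Q) := Thompson.le_pCore inferInstance S.2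
    rw [hcore, le_bot_iff, hS, Sylow.coe_mapSurjective, Subgroup.map_eq_bot_iff,
      QuotientGroup.ker_mk'] at hle
    exact hnotle P (hle.trans le_sup_left)
  have hAodd' : Odd (Nat.card A) := Nat.odd_iff.2 (by omega)
  haveI : IsZGroup A := ⟨fun r hr S => by
    haveI := Fact.mk hr
    rcases hfpf.sylow_isCyclic_or_quaternion hbad.1 S with hc | ⟨rfl, n, ⟨f⟩⟩
    · exact hc
    · exfalso
      have h := Nat.card_congr f.toEquiv
      rw [Nat.card_eq_fintype_card (α := QuaternionGroup _), QuaternionGroup.card] at h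
      exact hAodd (dvd_trans ⟨2 * 2 ^ n, by rw [h]; ring⟩
        (Subgroup.card_subgroup_dvd_card (S : Subgroup A)))⟩
  haveI hAcyc : IsCyclic A := inferInstance
  haveI hFcyc : IsCyclic F := isCyclic_of_surjective e e.surjective
  have hFcomm : ∀ a ∈ F, ∀ b ∈ F, Commute a b := by
    intro a ha b hb
    obtain ⟨g, hg⟩ := IsCyclic.exists_generator (α := F)
    obtain ⟨i, hi⟩ := hg ⟨a, ha⟩
    obtain ⟨j, hj⟩ := hg ⟨b, hb⟩
    have h1 : Commute (⟨a, ha⟩ : F) ⟨b, hb⟩ := by
      rw [← hi, ← hj]; exact Commute.zpow_zpow_self g i j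
    exact congrArg Subtype.val h1
  have hcent : Subgroup.centralizer (F : Set (G ⧸ Q)) ≤ F := Fitting.centralizer_fitting_le
  -- the quotient by `F` is abelian
  have hder : ∀ g h : G ⧸ Q, g * h * g⁻¹ * h⁻¹ ∈ F := by
    intro g h
    refine hcent (Subgroup.mem_centralizer_iff.2 fun a ha => ?_)
    set φ : G ⧸ Q →* MulAut F := MulAut.conjNormal
    have hc : φ g * φ h = φ h * φ g :=
      (IsCyclic.mulAutMulEquiv F).injective (by rw [map_mul, map_mul, mul_comm])
    have h1 : φ (g * h * g⁻¹ * h⁻¹) = 1 := by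
      rw [map_mul, map_mul, map_mul, map_inv, map_inv, hc, mul_inv_cancel_right, mul_inv_cancel]
    have h2 := congrArg (fun σ : MulAut F => ((σ ⟨a, ha⟩ : F) : G ⧸ Q)) h1
    have h3 : g * h * g⁻¹ * h⁻¹ * a * (g * h * g⁻¹ * h⁻¹)⁻¹ = a := by
      simp only [φ, MulAut.conjNormal_apply, MulAut.one_apply] at h2
      exact h2
    exact (mul_inv_eq_iff_eq_mul.1 h3).symm
  -- elements of order prime to `p` lie in `F`
  have hprime' : ∀ y : G ⧸ Q, (orderOf y).Coprime p → y ∈ F := by
    intro y hy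
    set B := F ⊔ Subgroup.zpowers y with hB
    have hFB : F ≤ B := le_sup_left
    haveI hBn : B.Normal := ⟨fun b hb g => by
      have := B.mul_mem (hFB (hder g b)) hb
      simpa using this⟩
    have hBcop : (Nat.card B).Coprime p :=
      ((hFcop.mul_left (show (Nat.card (Subgroup.zpowers y)).Coprime p by
        rw [Nat.card_zpowers]; exact hy)).coprime_dvd_left (by
        rw [hB, sup_comm, mul_comm]; exact Thompson.card_sup_dvd_mul _ F))
    obtain ⟨B0, eB, -, hcB, -, hfB⟩ := lift B hBcop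
    have hB0 : B0 ≠ ⊥ := fun h => hF1 (le_bot_iff.1 (hFB.trans (le_of_eq (Subgroup.card_eq_one.1
      (by rw [← hcB, h, Subgroup.card_bot])))))
    obtain ⟨c, hc, hc1⟩ := (Subgroup.center B0).bot_or_exists_ne_one.resolve_left
      (hfB.center_ne_bot hbad.1 hB0)
    have hcB : ∀ b ∈ B, Commute (eB c : G ⧸ Q) b := fun b hb => by
      have := congrArg eB (Subgroup.mem_center_iff.1 hc (eB.symm ⟨b, hb⟩))
      rw [map_mul, map_mul, MulEquiv.apply_symm_apply] at this
      exact (congrArg Subtype.val this).symm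
    have hBnil : Group.IsNilpotent B := isNilpotent_of_le_centralizer hCN'
      (z := (eB c : G ⧸ Q)) (fun h => hc1 (by
        have : eB c = 1 := Subtype.ext h
        rwa [MulEquiv.map_eq_one_iff] at this)) hcB
    exact Fitting.le_fitting hBn hBnil (Subgroup.mem_sup_right (Subgroup.mem_zpowers y))
  -- centralizers of non-identity elements of `F`
  have hCa : ∀ a ∈ F, a ≠ 1 → Subgroup.centralizer ({a} : Set (G ⧸ Q)) ≤ F := by
    intro a ha ha1
    rw [← Subgroup.subgroupOf_eq_top]
    refine Transfer.eq_top_of_prime_pow_orderOf_mem fun r hr g ⟨k, hk⟩ => ?_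
    obtain ⟨w, hw⟩ := g
    rw [Subgroup.mem_subgroupOf]
    rw [Subgroup.orderOf_mk] at hk
    rcases eq_or_ne r p with rfl | hrp
    · refine hcent (Subgroup.mem_centralizer_iff.2 fun b hb => ?_)
      exact (commute_of_common hCN' ha1 (hFcomm a ha b hb)
        (Subgroup.mem_centralizer_singleton_iff.1 hw).symm
        (by
          rw [hk]
          exact (hFcop.coprime_dvd_left (Subgroup.orderOf_dvd_natCard F hb)).pow_right k)).eq
    · exact hprime' w (by rw [hk]; exact ((Nat.coprime_primes hr hp.out).2 hrp).pow_left k)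
  refine ⟨A, hA1, hAcyc, hAodd', hcard ▸ hFcop, hsupN, ?_, ?_, hfpf.2, ?_⟩
  · rw [commutator_def, Subgroup.commutator_le]
    intro g _ h _
    rw [hsup, Subgroup.mem_comap, commutatorElement_def, map_mul, map_mul, map_mul, map_inv,
      map_inv]
    exact hder _ _
  · refine ⟨_, Nat.eq_prime_pow_of_unique_prime_dvd (Subgroup.index_ne_zero_of_finite)
      fun {r} hr hrd => ?_⟩
    by_contra hrp
    haveI := Fact.mk hr
    refine (default : Sylow r G).not_dvd_index (hrd.trans (Subgroup.index_dvd_of_le ?_))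
    intro x hx
    obtain ⟨k, hk⟩ := exists_orderOf_prime_pow (default : Sylow r G).2 hx
    rw [hsup, Subgroup.mem_comap]
    exact hprime' _ (Nat.Coprime.coprime_dvd_left (orderOf_map_dvd π x)
      (by rw [hk]; exact ((Nat.coprime_primes hr hp.out).2 hrp).pow_left k))
  · intro x hx a ha ha1 hmem
    apply hx
    rw [hsup, Subgroup.mem_comap]
    have haF : π a ∈ F := he ⟨a, ha⟩ ▸ (e ⟨a, ha⟩).2
    have ha1' : π a ≠ 1 := fun h => ha1 (by
      have : e ⟨a, ha⟩ = 1 := Subtype.ext ((he _).trans h)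
      rw [MulEquiv.map_eq_one_iff] at this
      exact congrArg Subtype.val this)
    refine hCa _ haF ha1' (Subgroup.mem_centralizer_singleton_iff.2 ?_)
    have h1 : π (x * a * x⁻¹ * a⁻¹) = 1 := (QuotientGroup.eq_one_iff _).2 hmem
    rw [map_mul, map_mul, map_mul, map_inv, map_inv, mul_inv_eq_one, mul_inv_eq_iff_eq_mul] at h1
    exact h1

end Cfsg.Agent.CN7
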