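import Cfsg.Prelude.Def_LieExceptional
import Cfsg.Agent.Lib.Transfer.Hall
import Cfsg.Agent.Lib.Fitting.Minimal
import Cfsg.Agent.BGUniq.FittingHall

/-!
Finite groups in which centralizers of non-identity elements are nilpotent: generalities.
-/

set_option autoImplicit false

namespace Cfsg.Agent.CN7

variable {G : Type*} [Group G]

/-- A nilpotent subgroup contained in no larger nilpotent subgroup. -/
def IsMaxNil (H : Subgroup G) : Prop :=
  Group.IsNilpotent H ∧ ∀ L : Subgroup G, Group.IsNilpotent L → H ≤ L → L = H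

lemma isNilpotent_map_of_injective {K : Type*} [Group K] (f : K →* G) {N : Subgroup K}
    (hN : Group.IsNilpotent N) : Group.IsNilpotent (N.map f) :=
  Fitting.isNilpotent_map f hN

lemma isNilpotent_subgroupOf {N K : Subgroup G} (hN : Group.IsNilpotent N) (h : N ≤ K) :
    Group.IsNilpotent (N.subgroupOf K) :=
  haveI := hN
  Group.nilpotent_of_mulEquiv (Subgroup.subgroupOfEquivOfLe h).symm

lemma isNilpotent_of_map_subtype {K : Subgroup G} {N : Subgroup K}
    (hN : Group.IsNilpotent (N.map K.subtype)) : Group.IsNilpotent N :=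
  haveI := hN
  Group.nilpotent_of_mulEquiv (N.equivMapOfInjective K.subtype K.subtype_injective).symm

lemma isNilpotent_top_iff_map {K : Subgroup G} :
    Group.IsNilpotent K ↔ Group.IsNilpotent (⊤ : Subgroup K) :=
  Group.isNilpotent_top.symm

/-- Subgroups of CN groups are CN groups. -/
theorem isCN_subgroup (hCN : IsCNGroup G) (K : Subgroup G) : IsCNGroup K := by
  intro g hg
  refine isNilpotent_of_map_subtype (Fitting.isNilpotent_of_le
    (hCN (g : G) (by simpa using hg)) ?_)
  rintro _ ⟨x, hx, rfl⟩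
  exact Subgroup.mem_centralizer_singleton_iff.2
    (congrArg Subtype.val (Subgroup.mem_centralizer_singleton_iff.1 hx))

theorem isNilpotent_of_le_centralizer (hCN : IsCNGroup G) {S : Subgroup G} {z : G} (hz : z ≠ 1)
    (hS : ∀ s ∈ S, Commute z s) : Group.IsNilpotent S :=
  Fitting.isNilpotent_of_le (hCN z hz) fun s hs =>
    Subgroup.mem_centralizer_singleton_iff.2 (hS s hs).symm

lemma commute_of_coprime_orders [Finite G] {K : Subgroup G} (hK : Group.IsNilpotent K) {a b : G}
    (ha : a ∈ K) (hb : b ∈ K) (h : (orderOf a).Coprime (orderOf b)) : Commute a b := by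
  have := Transfer.nilpotent_commute_of_coprime hK (x := ⟨a, ha⟩) (y := ⟨b, hb⟩)
    (by simpa [Subgroup.orderOf_mk] using h)
  exact congrArg Subtype.val this

/-- In a CN group, two elements of coprime orders commuting with the same `x ≠ 1` commute. -/
theorem commute_of_common [Finite G] (hCN : IsCNGroup G) {x a b : G} (hx : x ≠ 1)
    (ha : Commute x a) (hb : Commute x b) (h : (orderOf a).Coprime (orderOf b)) : Commute a b :=
  commute_of_coprime_orders (hCN x hx) (Subgroup.mem_centralizer_singleton_iff.2 ha.symm)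
    (Subgroup.mem_centralizer_singleton_iff.2 hb.symm) h

lemma commute_of_le_centralizer {H : Subgroup G} {z h : G}
    (hz : z ∈ Subgroup.centralizer (H : Set G)) (hh : h ∈ H) : Commute h z :=
  Subgroup.mem_centralizer_iff.1 hz h hh

/-- To commute with a subgroup it is enough to commute with its elements of prime power order. -/
lemma mem_centralizer_of_prime_pow [Finite G] {H : Subgroup G} {z : G}
    (h : ∀ q : ℕ, q.Prime → ∀ w ∈ H, ∀ k, orderOf w = q ^ k → Commute w z) :
    z ∈ Subgroup.centralizer (H : Set G) := by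
  have ht : (Subgroup.centralizer ({z} : Set G)).subgroupOf H = ⊤ :=
    Transfer.eq_top_of_prime_pow_orderOf_mem fun q hq g ⟨k, hk⟩ => by
      rw [Subgroup.mem_subgroupOf, Subgroup.mem_centralizer_singleton_iff]
      exact h q hq g g.2 k (by rw [Subgroup.orderOf_coe]; exact hk)
  refine Subgroup.mem_centralizer_iff.2 fun w hw => ?_
  exact Subgroup.mem_centralizer_singleton_iff.1 (Subgroup.subgroupOf_eq_top.1 ht hw)

lemma coprime_orders {p q : ℕ} (hp : p.Prime) (hq : q.Prime) (hne : p ≠ q) {a b : G} {i j : ℕ}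
    (ha : orderOf a = p ^ i) (hb : orderOf b = q ^ j) : (orderOf a).Coprime (orderOf b) := by
  rw [ha, hb]; exact ((Nat.coprime_primes hp hq).2 hne).pow i j

lemma exists_orderOf_prime_pow {p : ℕ} [Fact p.Prime] {P : Subgroup G} (hP : IsPGroup p P) {x : G}
    (hx : x ∈ P) : ∃ k, orderOf x = p ^ k := by
  obtain ⟨k, hk⟩ := (IsPGroup.iff_orderOf.1 hP) ⟨x, hx⟩
  exact ⟨k, by rw [← hk, Subgroup.orderOf_mk]⟩

/-- Every element of prime power order of a nilpotent subgroup lies in the Sylow subgroup below it. -/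
lemma mem_sylow_of_le [Finite G] {p : ℕ} [Fact p.Prime] {H : Subgroup G}
    (hH : Group.IsNilpotent H) {P : Sylow p G} (hP : (P : Subgroup G) ≤ H) {x : G} (hx : x ∈ H)
    {k : ℕ} (hk : orderOf x = p ^ k) : x ∈ P := by
  have := Transfer.nilpotent_mem_sylow hH (P.subtype hP) (x := ⟨x, hx⟩) (k := k)
    (by rw [Subgroup.orderOf_mk]; exact hk)
  rw [Sylow.coe_subtype, Subgroup.mem_subgroupOf] at this
  exact this

theorem sylow_eq_of_le_nilpotent [Finite G] {p : ℕ} [Fact p.Prime] {K : Subgroup G}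
    (hK : Group.IsNilpotent K) {P Q : Sylow p G} (hP : (P : Subgroup G) ≤ K)
    (hQ : (Q : Subgroup G) ≤ K) : P = Q := by
  refine Sylow.ext (le_antisymm (fun x hx => ?_) (fun x hx => ?_))
  · obtain ⟨k, hk⟩ := exists_orderOf_prime_pow P.2 hx
    exact mem_sylow_of_le hK hQ (hP hx) hk
  · obtain ⟨k, hk⟩ := exists_orderOf_prime_pow Q.2 hx
    exact mem_sylow_of_le hK hP (hQ hx) hk

/-- A nontrivial subgroup normalized by a nilpotent subgroup containing it meets its centralizer. -/
theorem exists_central_mem {K N : Subgroup G} (hK : Group.IsNilpotent K) (hN : N ≤ K)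
    (hn : K ≤ Subgroup.normalizer (N : Set G)) (hne : N ≠ ⊥) :
    ∃ z ∈ N, z ≠ 1 ∧ z ∈ Subgroup.centralizer (K : Set G) := by
  haveI := hK
  haveI : (N.subgroupOf K).Normal := Subgroup.normal_subgroupOf_iff_le_normalizer hN |>.2 hn
  have hne' : N.subgroupOf K ≠ ⊥ := fun h => hne (by
    have := Subgroup.subgroupOf_eq_bot.1 h
    rwa [disjoint_iff, inf_eq_left.2 hN] at this)
  obtain ⟨⟨z, hz⟩, ⟨hzN, hzc⟩, hz1⟩ :=
    ((N.subgroupOf K) ⊓ Subgroup.center K).bot_or_exists_ne_one.resolve_left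
      (Fitting.inf_center_ne_bot hne')
  exact ⟨z, hzN, fun h => hz1 (Subtype.ext h), Subgroup.mem_centralizer_iff.2 fun k hk =>
    congrArg Subtype.val (Subgroup.mem_center_iff.1 hzc ⟨k, hk⟩)⟩

theorem exists_center_mem {K : Subgroup G} (hK : Group.IsNilpotent K) (hne : K ≠ ⊥) :
    ∃ z ∈ K, z ≠ 1 ∧ z ∈ Subgroup.centralizer (K : Set G) :=
  exists_central_mem hK le_rfl Subgroup.le_normalizer hne

/-- Every nilpotent subgroup lies in a maximal one. -/
theorem exists_isMaxNil [Finite G] {K : Subgroup G} (hK : Group.IsNilpotent K) :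
    ∃ H, IsMaxNil H ∧ K ≤ H := by
  obtain ⟨H, hKH, hH⟩ := Finite.exists_le_maximal (p := fun L : Subgroup G => Group.IsNilpotent L) hK
  exact ⟨H, ⟨hH.1, fun L hL hle => le_antisymm (hH.2 hL hle) hle⟩, hKH⟩

theorem sylow_ne_bot_of_dvd [Finite G] {p : ℕ} [Fact p.Prime] (P : Sylow p G)
    (h : p ∣ Nat.card G) : (P : Subgroup G) ≠ ⊥ :=
  P.ne_bot_of_dvd_card h

theorem exists_prime_power_elt [Finite G] {x : G} (hx : x ≠ 1) :
    ∃ p : ℕ, p.Prime ∧ p ∣ orderOf x ∧ ∃ n : ℕ, orderOf (x ^ n) = p := by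
  obtain ⟨p, hp, hd⟩ := Nat.exists_prime_and_dvd (orderOf_eq_one_iff.not.2 hx)
  exact ⟨p, hp, hd, orderOf x / p, orderOf_pow_orderOf_div (orderOf_pos x).ne' hd⟩

end Cfsg.Agent.CN7
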