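import Cfsg.Agent.CN7.Classes
import Cfsg.Agent.Lib.Coprime.Action

/-!
The CN theorem for odd order, modulo the character-theoretic contradiction for a group partitioned
by coprime Frobenius kernels (statement S1526).
-/

set_option autoImplicit false

namespace Cfsg.Agent.CN7

open OddLocal44

universe u

/-- The statement of S1526. -/
def NoPartition : Prop :=
  ∀ {G : Type u} [Group G] [Finite G], Odd (Nat.card G) → ∀ {ι : Type u} [Fintype ι],
    2 ≤ Fintype.card ι → ∀ (L H : ι → Subgroup G), (∀ i, H i < L i) → (∀ i, H i ≠ ⊥) →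
    (∀ i, ∀ x ∈ L i, ∀ h ∈ H i, x * h * x⁻¹ ∈ H i) →
    (∀ i, ∀ h ∈ H i, h ≠ 1 → L i ⊓ Subgroup.centralizer ({h} : Set G) ≤ H i) →
    (∀ i j, i ≠ j → Nat.Coprime (Nat.card (H i)) (Nat.card (H j))) →
    (∀ i, IsTISubset (H i : Set G) ∧ Subgroup.normalizer (H i : Set G) = L i) →
    (∀ g : G, g ≠ 1 → ∃ i, ∃ x : G, x * g * x⁻¹ ∈ H i) → False

theorem false_of_minSimple (h1526 : NoPartition.{u}) {G : Type u} [Group G] [Finite G]
    (hG : IsMinSimpleOddOrder G) (hCN : IsCNGroup G) : False := by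
  haveI := nontrivial hG
  let T := {H : Subgroup G // IsMaxNil H}
  letI s : Setoid T := ⟨fun H K => ∃ g : G, K.1 = H.1.map (MulAut.conj g).toMonoidHom,
    fun H => ⟨1, (conjBy_one H.1).symm⟩,
    fun {H K} ⟨g, hg⟩ => ⟨g⁻¹, by rw [hg, conjBy_conjBy, inv_mul_cancel, conjBy_one]⟩,
    fun {H K J} ⟨g, hg⟩ ⟨g', hg'⟩ => ⟨g' * g, by rw [hg', hg, conjBy_conjBy]⟩⟩
  let ι := Quotient s
  haveI : Fintype ι := Fintype.ofFinite ι
  let Hf : ι → Subgroup G := fun i => (Quotient.out i).1
  have hHf : ∀ i, IsMaxNil (Hf i) := fun i => (Quotient.out i).2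
  have hcov : ∀ H : T, ∃ i, ∃ g : G, H.1 = (Hf i).map (MulAut.conj g).toMonoidHom := fun H =>
    ⟨⟦H⟧, Quotient.mk_out (s := s) H⟩
  have hmem : ∀ x : G, ∃ i, ∃ g : G, g * x * g⁻¹ ∈ Hf i := by
    intro x
    obtain ⟨H, hH, hxH⟩ := exists_isMaxNil (K := Subgroup.zpowers x)
      (by open scoped IsMulCommutative in infer_instance)
    obtain ⟨i, g, hg⟩ := hcov ⟨H, hH⟩
    refine ⟨i, g⁻¹, ?_⟩
    have h1 := hxH (Subgroup.mem_zpowers x)
    rw [show H = _ from hg] at h1
    obtain ⟨y, hy, rfl⟩ := h1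
    simp only [MulEquiv.coe_toMonoidHom, MulAut.conj_apply]
    simpa [mul_assoc] using hy
  have hcop : ∀ i j, i ≠ j → (Nat.card (Hf i)).Coprime (Nat.card (Hf j)) := fun i j hij =>
    ((hHf i).conj_or_coprime hCN (hHf j)).resolve_left fun ⟨g, hg⟩ => hij (by
      rw [← Quotient.out_eq i, ← Quotient.out_eq j]
      exact Quotient.sound ⟨g, hg⟩)
  refine h1526 hG.1 (ι := ι) ?_ (fun i => Subgroup.normalizer (Hf i : Set G)) Hf
    (fun i => lt_of_le_of_ne Subgroup.le_normalizer (normalizer_ne_self hG hCN (hHf i)).symm)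
    (fun i => (hHf i).ne_bot) (fun i x hx h hh => Coprime.conj_mem_of_mem_normalizer hx hh)
    (fun i h hh h1 => inf_le_right.trans (centralizer_le hG hCN (hHf i) hh h1)) hcop
    (fun i => ⟨fun g hg x hx hgx => ?_, rfl⟩) (fun g _ => hmem g)
  · by_contra hlt
    obtain ⟨i, g, -⟩ := hmem 1
    have hsub : ∀ j, j = i := fun j => by
      by_contra hne
      exact hlt (Fintype.one_lt_card_iff_nontrivial.2 ⟨j, i, hne⟩)
    have hidx : (Hf i).index ≠ 1 := fun h => maxNil_ne_top hG (hHf i) (Subgroup.index_eq_one.1 h)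
    obtain ⟨q, hq, hqd⟩ := Nat.exists_prime_and_dvd hidx
    haveI := Fact.mk hq
    obtain ⟨x, hx⟩ := exists_prime_orderOf_dvd_card' (G := G) q
      (hqd.trans (Hf i).index_dvd_card)
    obtain ⟨j, g', hj⟩ := hmem x
    rw [hsub j] at hj
    refine hq.ne_one (Nat.eq_one_of_dvd_coprimes ((hHf i).coprime_index hCN) ?_ hqd)
    rw [← hx, ← orderOf_injective (MulAut.conj g').toMonoidHom (MulAut.conj g').injective x]
    exact Subgroup.orderOf_dvd_natCard _ hj
  · by_contra hx1
    refine hg (mem_normalizer_of_conjBy_eq ?_)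
    by_contra hne
    have hm : g * x * g⁻¹ ∈ Hf i ⊓ (Hf i).map (MulAut.conj g).toMonoidHom := ⟨hgx, x, hx, rfl⟩
    rw [isTI hG hCN (hHf i) g hne, Subgroup.mem_bot, mul_inv_eq_one] at hm
    exact hx1 (mul_eq_left.1 hm)

theorem isSolvable_aux (h1526 : NoPartition.{u}) (n : ℕ) :
    ∀ (G : Type u) [Group G] [Finite G], Nat.card G = n → Odd (Nat.card G) → IsCNGroup G →
      Group.IsSolvable G := by
  induction n using Nat.strong_induction_on with
  | _ n ih =>
    intro G _ _ hn hodd hCN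
    have hsub : ∀ H : Subgroup G, H ≠ ⊤ → Group.IsSolvable H := fun H hH =>
      ih _ (by
        rw [← hn]
        exact lt_of_le_of_ne (Nat.le_of_dvd Nat.card_pos (Subgroup.card_subgroup_dvd_card H))
          fun h => hH (Subgroup.eq_top_of_card_eq H h)) H rfl
        (hodd.of_dvd_nat (Subgroup.card_subgroup_dvd_card H)) (isCN_subgroup hCN H)
    rcases subsingleton_or_nontrivial G with hs | hnt
    · infer_instance
    by_cases hsimple : IsSimpleGroup G
    · by_cases hcomm : IsMulCommutative G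
      · exact Group.isSolvable_of_comm fun a b => hcomm.is_comm.comm a b
      · exact (false_of_minSimple h1526 ⟨hodd, hsimple, hcomm, hsub⟩ hCN).elim
    · obtain ⟨N, hN, hN1, hN2⟩ : ∃ N : Subgroup G, N.Normal ∧ N ≠ ⊥ ∧ N ≠ ⊤ := by
        by_contra hall
        push Not at hall
        exact hsimple { eq_bot_or_eq_top_of_normal := fun N hN =>
          or_iff_not_imp_left.2 (hall N hN) }
      haveI := hN
      haveI := hsub N hN2
      have hlt : Nat.card (G ⧸ N) < n := by
        rw [← hn, Subgroup.card_eq_card_quotient_mul_card_subgroup N]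
        exact lt_mul_right Nat.card_pos ((Subgroup.one_lt_card_iff_ne_bot N).2 hN1)
      haveI : Group.IsSolvable (G ⧸ N) := ih _ hlt (G ⧸ N) rfl
        (hodd.of_dvd_nat (Subgroup.card_quotient_dvd_card N))
        (isCN_quotient_solvable hCN N inferInstance)
      exact Group.isSolvable_of_ker_le_range N.subtype (QuotientGroup.mk' N)
        (by rw [QuotientGroup.ker_mk', Subgroup.range_subtype])

theorem isSolvable_of_odd_CN (h1526 : NoPartition.{u}) {G : Type u} [Group G] [Finite G]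
    (hodd : Odd (Nat.card G)) (hCN : IsCNGroup G) : Group.IsSolvable G :=
  isSolvable_aux h1526 _ G rfl hodd hCN

/-- A CA group is a CN group. -/
theorem isCN_of_CA {G : Type u} [Group G]
    (hCA : ∀ x : G, x ≠ 1 → ∀ a ∈ Subgroup.centralizer ({x} : Set G),
      ∀ b ∈ Subgroup.centralizer ({x} : Set G), a * b = b * a) : IsCNGroup G := by
  intro g hg
  haveI : IsMulCommutative (Subgroup.centralizer ({g} : Set G)) :=
    ⟨⟨fun a b => Subtype.ext (hCA g hg a a.2 b b.2)⟩⟩
  open scoped IsMulCommutative in infer_instance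

end Cfsg.Agent.CN7
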