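import Cfsg.Agent.CN7.MinSimple

/-!
Maximal nilpotent subgroups and maximal subgroups of a minimal simple CN group of odd order.
-/

set_option autoImplicit false

namespace Cfsg.Agent.CN7

open OddLocal44
open scoped Pointwise

variable {G : Type*} [Group G] [Finite G] (hG : IsMinSimpleOddOrder G) (hCN : IsCNGroup G)
include hG hCN

theorem isTI {H : Subgroup G} (hH : IsMaxNil H) : IsTI H :=
  hH.isTI_of_sylow_TI hCN fun _ _ _ _ h => sylow_TI hG hCN h

theorem centralizer_le {H : Subgroup G} (hH : IsMaxNil H) {x : G} (hx : x ∈ H) (hx1 : x ≠ 1) :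
    Subgroup.centralizer ({x} : Set G) ≤ H :=
  hH.centralizer_le hCN (isTI hG hCN hH) hx hx1

omit hCN in
theorem nontrivial : Nontrivial G := haveI := hG.2.1; inferInstance

omit hCN in
theorem maxNil_ne_top {H : Subgroup G} (hH : IsMaxNil H) : H ≠ ⊤ := fun h =>
  not_isNilpotent hG (Group.isNilpotent_top.1 (h ▸ hH.1))

theorem normalizer_ne_top {H : Subgroup G} (hH : IsMaxNil H) :
    Subgroup.normalizer (H : Set G) ≠ ⊤ :=
  haveI := nontrivial hG
  BGSigma.normalizer_ne_top hG hH.ne_bot (maxNil_ne_top hG hH)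

omit hG in
theorem normalizer_eq_sylow {H : Subgroup G} (hH : IsMaxNil H) {p : ℕ} [Fact p.Prime]
    {R : Sylow p G} (hR1 : (R : Subgroup G) ≠ ⊥) (hR : (R : Subgroup G) ≤ H) :
    Subgroup.normalizer (H : Set G) = Subgroup.normalizer ((R : Subgroup G) : Set G) := by
  refine le_antisymm (fun g hg => ?_) (fun g hg => ?_)
  · refine mem_normalizer_of_conjBy_eq ?_
    have hle : ((g • R : Sylow p G) : Subgroup G) ≤ H :=
      (Subgroup.map_mono hR).trans (conjBy_eq_of_mem_normalizer hg).le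
    exact congrArg Sylow.toSubgroup (sylow_eq_of_le_nilpotent hH.1 hle hR)
  · refine mem_normalizer_of_conjBy_eq ((hH.map_conj g).eq_of_sylow_le hCN hH hR1 ?_ hR)
    exact (conjBy_eq_of_mem_normalizer hg).ge.trans (Subgroup.map_mono hR)

theorem exists_sylow {H : Subgroup G} (hH : IsMaxNil H) :
    ∃ (p : ℕ) (_ : Fact p.Prime) (R : Sylow p G),
      (R : Subgroup G) ≠ ⊥ ∧ (R : Subgroup G) ≤ H := by
  haveI := nontrivial hG
  obtain ⟨p, hp, hpd⟩ := Nat.exists_prime_and_dvd
    (show Nat.card H ≠ 1 from fun h => hH.ne_bot (Subgroup.card_eq_one.1 h))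
  haveI := Fact.mk hp
  obtain ⟨R, hR⟩ := hH.exists_sylow_le hCN hpd
  exact ⟨p, Fact.mk hp, R, IsMaxNil.sylow_ne_bot hpd R, hR⟩

theorem normalizer_ne_self {H : Subgroup G} (hH : IsMaxNil H) :
    Subgroup.normalizer (H : Set G) ≠ H := by
  intro hN
  obtain ⟨p, hp, R, hR1, hR⟩ := exists_sylow hG hCN hH
  refine hR1 (Transfer.eq_bot_of_le_commutator (hS := hH.1) hR ?_)
  have hres : pResidual p G = ⊤ := by
    refine (BGSigma.normal_eq_bot_or_top hG inferInstance).resolve_left fun h => ?_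
    have h1 : IsPGroup p (G ⧸ pResidual p G) := Thompson.isPGroup_quotient_pResidual
    exact not_isNilpotent hG ((h1.of_equiv
      ((QuotientGroup.quotientMulEquivOfEq h).trans QuotientGroup.quotientBot)).isNilpotent)
  refine (Transfer.sylow_le_focalSubgroup_of_pResidual_eq_top R hres).trans
    (Transfer.focalSubgroup_le_of_control ?_)
  rintro x hx y hy ⟨g, rfl⟩
  rcases eq_or_ne x 1 with rfl | hx1
  · exact ⟨1, H.one_mem, by simp⟩
  refine ⟨g, hN.le (mem_normalizer_of_conjBy_eq ?_), rfl⟩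
  by_contra hne
  have hm : g * x * g⁻¹ ∈ H ⊓ H.map (MulAut.conj g).toMonoidHom :=
    ⟨hR hy, x, hR hx, rfl⟩
  rw [isTI hG hCN hH g hne, Subgroup.mem_bot, mul_inv_eq_one] at hm
  exact hx1 (mul_eq_left.1 hm)

/-- Every maximal subgroup is the normalizer of a maximal nilpotent subgroup. -/
theorem coatom_eq {M : Subgroup G} (hM : IsCoatom M) :
    ∃ H : Subgroup G, IsMaxNil H ∧ M = Subgroup.normalizer (H : Set G) := by
  haveI := BGSigma.coatom_isSolvable hG hM
  haveI : Nontrivial M := (Subgroup.nontrivial_iff_ne_bot M).2 (BGSigma.coatom_ne_bot hG hM)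
  obtain ⟨V, hV⟩ := Fitting.exists_isMinNormal (G := M)
  obtain ⟨p, hp, hel⟩ := hV.exists_isElementaryAbelian_of_isSolvable
  haveI := Fact.mk hp
  have hcore : pCore p M ≠ ⊥ := fun h => hV.2.1 (le_bot_iff.1
    ((Thompson.le_pCore hV.1 (Fitting.isPGroup_of_isElementaryAbelian hel)).trans h.le))
  obtain ⟨T, hT⟩ : ∃ T : Sylow p M, (T : Subgroup M).Normal := by
    by_contra hall
    exact not_bad hG hCN hM.1 ⟨hcore, fun T hT => hall ⟨T, hT⟩⟩
  set T' := (T : Subgroup M).map M.subtype with hT'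
  have hT1 : T' ≠ ⊥ := fun h => by
    rw [hT', Subgroup.map_eq_bot_iff_of_injective _ M.subtype_injective] at h
    exact hcore (le_bot_iff.1 ((Thompson.pCore_le_sylow T).trans h.le))
  have hMN : M ≤ Subgroup.normalizer (T' : Set G) := fun x hx =>
    Subgroup.le_normalizer_map M.subtype
      ⟨⟨x, hx⟩, by rw [Subgroup.normalizer_eq_top_iff.2 hT]; trivial, rfl⟩
  have heqM : Subgroup.normalizer (T' : Set G) = M :=
    (hM.le_iff.1 hMN).resolve_left (normalizer_pgroup_ne_top hG (T.2.map _) hT1)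
  obtain ⟨R, hR⟩ := (T.2.map M.subtype).exists_le_sylow
  rcases hR.eq_or_lt with heq | hlt
  · obtain ⟨H, hH, hRH⟩ := exists_isMaxNil (K := (R : Subgroup G)) R.2.isNilpotent
    refine ⟨H, hH, ?_⟩
    rw [normalizer_eq_sylow hCN hH (heq ▸ hT1) hRH, ← heq, heqM]
  · exfalso
    have h1 := lt_inf_normalizer R.2.isNilpotent hlt
    rw [← hT', heqM] at h1
    have h2 : (R : Subgroup G).subgroupOf M = (T : Subgroup M) := T.3 R.2.comap_subtype
      fun x hx => hR ⟨x, hx, rfl⟩
    refine h1.not_ge ?_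
    rintro x ⟨hxR, hxM⟩
    exact ⟨⟨x, hxM⟩, h2 ▸ hxR, rfl⟩

theorem coatom_normalizer {H : Subgroup G} (hH : IsMaxNil H) :
    IsCoatom (Subgroup.normalizer (H : Set G)) := by
  obtain ⟨M, hM, hLM⟩ :=
    (eq_top_or_exists_le_coatom (Subgroup.normalizer (H : Set G))).resolve_left
      (normalizer_ne_top hG hCN hH)
  obtain ⟨K, hK, rfl⟩ := coatom_eq hG hCN hM
  suffices h : Subgroup.normalizer (K : Set G) ≤ Subgroup.normalizer (H : Set G) from
    le_antisymm hLM h ▸ hM
  obtain ⟨p, hp, R, hR1, hR⟩ := exists_sylow hG hCN hH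
  set M := Subgroup.normalizer (K : Set G) with hMdef
  have hRM : (R : Subgroup G) ≤ M := hR.trans (Subgroup.le_normalizer.trans hLM)
  by_cases hpK : p ∣ Nat.card K
  · obtain ⟨R', hR'⟩ := hK.exists_sylow_le hCN hpK
    have hR'1 := IsMaxNil.sylow_ne_bot hpK R'
    rw [normalizer_eq_sylow hCN hH hR1 hR, hMdef, normalizer_eq_sylow hCN hK hR'1 hR']
    have hMR' : M = Subgroup.normalizer ((R' : Subgroup G) : Set G) :=
      normalizer_eq_sylow hCN hK hR'1 hR'
    obtain ⟨⟨m, hm⟩, he⟩ := MulAction.exists_smul_eq M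
      (R'.subtype (hR'.trans Subgroup.le_normalizer)) (R.subtype hRM)
    rw [Sylow.smul_subtype] at he
    have h3 : m • R' = R := Sylow.subtype_injective he
    have h4 : m • R' = R' := Sylow.smul_eq_iff_mem_normalizer.2 (hMR' ▸ hm : m ∈ Subgroup.normalizer ((R' : Subgroup G) : Set G))
    rw [← h3, h4]
  · exfalso
    have hcop : (Nat.card H).Coprime (Nat.card K) :=
      (hH.conj_or_coprime hCN hK).resolve_left fun ⟨g, hg⟩ => hpK (by
        rw [hg, card_conjBy]
        exact (dvd_trans (by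
          obtain ⟨k, hk⟩ := R.2.exists_card_eq
          rw [hk]
          exact dvd_pow_self p fun h0 =>
            hR1 (Subgroup.card_eq_one.1 (by rw [hk, h0, pow_zero])))
          (Subgroup.card_dvd_of_le hR)))
    set L := Subgroup.normalizer (H : Set G) with hL
    haveI := nontrivial hG
    have hfix : ∀ l ∈ L, l ≠ 1 → K ⊓ Subgroup.centralizer ({l} : Set G) = ⊥ := by
      intro l hl hl1
      rw [Subgroup.eq_bot_iff_forall]
      rintro k ⟨hk, hkc⟩
      by_contra hk1
      have hlK : l ∈ K := centralizer_le hG hCN hK hk hk1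
        (Subgroup.mem_centralizer_singleton_iff.2
          (Subgroup.mem_centralizer_singleton_iff.1 hkc).symm)
      obtain ⟨h, hh, hh1⟩ := H.bot_or_exists_ne_one.resolve_left hH.ne_bot
      have hcomm : l * h * l⁻¹ * h⁻¹ = 1 := Coprime.inf_eq_bot_of_coprime' hcop
        (H.mul_mem (Coprime.conj_mem_of_mem_normalizer hl hh) (H.inv_mem hh))
        (by
          have := K.mul_mem hlK (Coprime.conj_mem_of_mem_normalizer
            (hLM (Subgroup.le_normalizer hh)) (K.inv_mem hlK))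
          simpa [mul_assoc] using this)
      rw [mul_inv_eq_one, mul_inv_eq_iff_eq_mul] at hcomm
      exact hl1 (Coprime.inf_eq_bot_of_coprime' hcop
        (centralizer_le hG hCN hH hh hh1 (Subgroup.mem_centralizer_singleton_iff.2 hcomm)) hlK)
    have hf : Frobenius.IsFPF L K := ⟨hLM, hfix⟩
    obtain ⟨c, hc, hc1⟩ := (Subgroup.center L).bot_or_exists_ne_one.resolve_left
      (hf.center_ne_bot hK.ne_bot fun h => hH.ne_bot (le_bot_iff.1
        (Subgroup.le_normalizer.trans h.le)))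
    obtain ⟨h, hh, hh1⟩ := H.bot_or_exists_ne_one.resolve_left hH.ne_bot
    have hcc : ∀ l ∈ L, Commute (c : G) l := fun l hl =>
      (congrArg Subtype.val (Subgroup.mem_center_iff.1 hc ⟨l, hl⟩)).symm
    have hcH : (c : G) ∈ H := centralizer_le hG hCN hH hh hh1
      (Subgroup.mem_centralizer_singleton_iff.2 (hcc h (Subgroup.le_normalizer hh)))
    refine normalizer_ne_self hG hCN hH (le_antisymm (fun l hl => ?_) Subgroup.le_normalizer)
    exact centralizer_le hG hCN hH hcH (fun h => hc1 (Subtype.ext h))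
      (Subgroup.mem_centralizer_singleton_iff.2 (hcc l hl).symm)

theorem exists_compl {H : Subgroup G} (hH : IsMaxNil H) :
    ∃ E : Subgroup G, IsComplIn H E (Subgroup.normalizer (H : Set G)) ∧ E ≠ ⊥ ∧
      ∀ e ∈ E, e ≠ 1 → H ⊓ Subgroup.centralizer ({e} : Set G) = ⊥ := by
  set N := Subgroup.normalizer (H : Set G) with hN
  haveI : (H.subgroupOf N).Normal := Subgroup.normal_in_normalizer
  have hHN : H ≤ N := Subgroup.le_normalizer
  have hcop : (Nat.card (H.subgroupOf N)).Coprime (H.subgroupOf N).index := by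
    rw [Nat.card_congr (Subgroup.subgroupOfEquivOfLe hHN).toEquiv]
    exact (hH.coprime_index hCN).coprime_dvd_right (Subgroup.relIndex_dvd_index_of_le hHN)
  obtain ⟨E, hE⟩ := Subgroup.exists_right_complement'_of_coprime hcop
  have hdis : H ⊓ E.map N.subtype = ⊥ := by
    rw [Subgroup.eq_bot_iff_forall]
    rintro _ ⟨hx, x, hxE, rfl⟩
    exact congrArg Subtype.val
      (Subgroup.mem_bot.1 (hE.disjoint.le_bot ⟨Subgroup.mem_subgroupOf.2 hx, hxE⟩))
  refine ⟨E.map N.subtype, ⟨hHN, Subgroup.map_subtype_le _, hdis, fun m hm => ?_⟩, fun h => ?_,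
    ?_⟩
  · obtain ⟨a, ha, b, hb, hab⟩ := Set.mem_mul.1
      (show (⟨m, hm⟩ : N) ∈ (H.subgroupOf N : Set N) * (E : Set N) by
        rw [hE.mul_eq]; exact Set.mem_univ _)
    exact ⟨a, Subgroup.mem_subgroupOf.1 ha, b, ⟨b, hb, rfl⟩, (congrArg Subtype.val hab).symm⟩
  · rw [Subgroup.map_eq_bot_iff_of_injective _ N.subtype_injective] at h
    subst h
    refine normalizer_ne_self hG hCN hH (le_antisymm ?_ hHN)
    exact Subgroup.subgroupOf_eq_top.1 (Subgroup.isComplement'_bot_right.1 hE)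
  · intro e he he1
    rw [Subgroup.eq_bot_iff_forall]
    rintro x ⟨hx, hxc⟩
    by_contra hx1
    exact he1 (Subgroup.mem_bot.1 (hdis.le ⟨centralizer_le hG hCN hH hx hx1
      (Subgroup.mem_centralizer_singleton_iff.2
        (Subgroup.mem_centralizer_singleton_iff.1 hxc).symm), he⟩))

theorem fittingHallOf_normalizer {H : Subgroup G} (hH : IsMaxNil H) :
    fittingHallOf (Subgroup.normalizer (H : Set G)) = H := by
  set N := Subgroup.normalizer (H : Set G) with hN
  have hHN : H ≤ N := Subgroup.le_normalizer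
  refine hH.2 _ (isNilpotent_map_of_injective _ (BGUniq.fittingHall_isNilpotent N)) ?_
  intro x hx
  refine ⟨⟨x, hHN hx⟩, BGUniq.le_fittingHall (N := H.subgroupOf N) Subgroup.normal_in_normalizer
    (isNilpotent_subgroupOf hH.1 hHN) ?_ (Subgroup.mem_subgroupOf.2 hx), rfl⟩
  rw [Nat.card_congr (Subgroup.subgroupOfEquivOfLe hHN).toEquiv]
  exact (hH.coprime_index hCN).coprime_dvd_right (Subgroup.relIndex_dvd_index_of_le hHN)

end Cfsg.Agent.CN7
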