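import Cfsg.Agent.CN7.Basic
import Cfsg.Agent.OddLocal44.Conj

/-!
Maximal nilpotent subgroups of a CN group.
-/

set_option autoImplicit false

namespace Cfsg.Agent.CN7

open OddLocal44

variable {G : Type*} [Group G]

/-- `H` meets its other conjugates trivially. -/
def IsTI (H : Subgroup G) : Prop :=
  ∀ g : G, H.map (MulAut.conj g).toMonoidHom ≠ H → H ⊓ H.map (MulAut.conj g).toMonoidHom = ⊥

namespace IsMaxNil

variable {H H' : Subgroup G}

theorem eq_centralizer (hCN : IsCNGroup G) (hH : IsMaxNil H) {z : G} (hz1 : z ≠ 1)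
    (hz : z ∈ Subgroup.centralizer (H : Set G)) : Subgroup.centralizer ({z} : Set G) = H :=
  hH.2 _ (hCN z hz1) fun _ hh =>
    Subgroup.mem_centralizer_singleton_iff.2 (commute_of_le_centralizer hz hh)

theorem map_conj (hH : IsMaxNil H) (g : G) : IsMaxNil (H.map (MulAut.conj g).toMonoidHom) := by
  refine ⟨isNilpotent_map_of_injective _ hH.1, fun L hL hle => ?_⟩
  have h1 := hH.2 (L.map (MulAut.conj g⁻¹).toMonoidHom) (isNilpotent_map_of_injective _ hL)
    (by
      have := Subgroup.map_mono (f := (MulAut.conj g⁻¹).toMonoidHom) hle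
      rwa [conjBy_conjBy, inv_mul_cancel, conjBy_one] at this)
  rw [← h1, conjBy_conjBy, mul_inv_cancel, conjBy_one]

theorem ne_bot [Nontrivial G] (hH : IsMaxNil H) : H ≠ ⊥ := by
  rintro rfl
  obtain ⟨x, hx⟩ := exists_ne (1 : G)
  exact hx (Subgroup.zpowers_eq_bot.1 (hH.2 (Subgroup.zpowers x)
    (by open scoped IsMulCommutative in infer_instance) bot_le))

variable [Finite G]

/-- A central element of a Sylow subgroup inside `H` centralizes `H`. -/
theorem mem_centralizer_of_sylow (hH : IsMaxNil H) {p : ℕ} [hp : Fact p.Prime] {P : Sylow p G}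
    (hP : (P : Subgroup G) ≤ H) {z : G} (hz : z ∈ P)
    (hzc : z ∈ Subgroup.centralizer ((P : Subgroup G) : Set G)) :
    z ∈ Subgroup.centralizer (H : Set G) := by
  obtain ⟨j, hj⟩ := exists_orderOf_prime_pow P.2 hz
  refine mem_centralizer_of_prime_pow fun q hq w hw k hk => ?_
  rcases eq_or_ne q p with rfl | hqp
  · exact commute_of_le_centralizer hzc (mem_sylow_of_le hH.1 hP hw hk)
  · exact commute_of_coprime_orders hH.1 hw (hP hz) (coprime_orders hq hp.out hqp hk hj)

/-- For each prime divisor of `|H|`, `H` contains a Sylow subgroup of `G`. -/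
theorem exists_sylow_le (hCN : IsCNGroup G) (hH : IsMaxNil H) {p : ℕ} [hp : Fact p.Prime]
    (hpd : p ∣ Nat.card H) : ∃ P : Sylow p G, (P : Subgroup G) ≤ H := by
  set Q : Sylow p H := default with hQ
  obtain ⟨P, hP⟩ := (Q.2.map H.subtype).exists_le_sylow
  obtain ⟨⟨x, hxH⟩, hxQ, hx1⟩ :=
    (Q : Subgroup H).bot_or_exists_ne_one.resolve_left (Q.ne_bot_of_dvd_card hpd)
  have hxP : x ∈ P := hP ⟨_, hxQ, rfl⟩
  have hx : x ≠ 1 := fun h => hx1 (Subtype.ext h)
  obtain ⟨i, hi⟩ := exists_orderOf_prime_pow P.2 hxP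
  obtain ⟨z, hzP, hz1, hzc⟩ := exists_center_mem (K := (P : Subgroup G)) P.2.isNilpotent
    (fun h => hx (by rw [← Subgroup.mem_bot (G := G), ← h]; exact hxP))
  obtain ⟨j, hj⟩ := exists_orderOf_prime_pow P.2 hzP
  have hzH : z ∈ Subgroup.centralizer (H : Set G) := by
    refine mem_centralizer_of_prime_pow fun q hq w hw k hk => ?_
    rcases eq_or_ne q p with rfl | hqp
    · refine commute_of_le_centralizer hzc (hP ⟨⟨w, hw⟩, ?_, rfl⟩)
      exact Transfer.nilpotent_mem_sylow hH.1 Q (by rw [Subgroup.orderOf_mk]; exact hk)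
    · exact commute_of_common hCN hx
        (commute_of_coprime_orders hH.1 hxH hw (coprime_orders hp.out hq (Ne.symm hqp) hi hk))
        (commute_of_le_centralizer hzc hxP) (coprime_orders hq hp.out hqp hk hj)
  refine ⟨P, fun u hu => ?_⟩
  rw [← hH.eq_centralizer hCN hz1 hzH]
  exact Subgroup.mem_centralizer_singleton_iff.2 (commute_of_le_centralizer hzc hu)

theorem coprime_index (hCN : IsCNGroup G) (hH : IsMaxNil H) :
    (Nat.card H).Coprime H.index := by
  refine Nat.coprime_of_dvd fun p hp h1 h2 => ?_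
  haveI := Fact.mk hp
  obtain ⟨P, hP⟩ := hH.exists_sylow_le hCN h1
  exact P.not_dvd_index (h2.trans (Subgroup.index_dvd_of_le hP))

/-- A maximal nilpotent subgroup is determined by any of its nontrivial Sylow subgroups. -/
theorem eq_of_sylow_le (hCN : IsCNGroup G) (hH : IsMaxNil H) (hH' : IsMaxNil H') {p : ℕ}
    [Fact p.Prime] {P : Sylow p G} (hne : (P : Subgroup G) ≠ ⊥) (hP : (P : Subgroup G) ≤ H)
    (hP' : (P : Subgroup G) ≤ H') : H = H' := by
  obtain ⟨z, hzP, hz1, hzc⟩ := exists_center_mem (K := (P : Subgroup G)) P.2.isNilpotent hne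
  rw [← hH.eq_centralizer hCN hz1 (hH.mem_centralizer_of_sylow hP hzP hzc),
    hH'.eq_centralizer hCN hz1 (hH'.mem_centralizer_of_sylow hP' hzP hzc)]

theorem sylow_ne_bot {p : ℕ} [Fact p.Prime] (hpd : p ∣ Nat.card H) (P : Sylow p G) :
    (P : Subgroup G) ≠ ⊥ :=
  P.ne_bot_of_dvd_card (hpd.trans (Subgroup.card_subgroup_dvd_card H))

/-- Two maximal nilpotent subgroups are conjugate or of coprime orders. -/
theorem conj_of_common_prime (hCN : IsCNGroup G) (hH : IsMaxNil H) (hH' : IsMaxNil H') {p : ℕ}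
    [Fact p.Prime] (h1 : p ∣ Nat.card H) (h2 : p ∣ Nat.card H') :
    ∃ g : G, H' = H.map (MulAut.conj g).toMonoidHom := by
  obtain ⟨P, hP⟩ := hH.exists_sylow_le hCN h1
  obtain ⟨P', hP'⟩ := hH'.exists_sylow_le hCN h2
  obtain ⟨g, hg⟩ := MulAction.exists_smul_eq G P P'
  refine ⟨g, hH'.eq_of_sylow_le hCN (hH.map_conj g) (sylow_ne_bot h2 P') hP' ?_⟩
  rw [← hg]
  exact Subgroup.map_mono hP

theorem conj_or_coprime (hCN : IsCNGroup G) (hH : IsMaxNil H) (hH' : IsMaxNil H') :
    (∃ g : G, H' = H.map (MulAut.conj g).toMonoidHom) ∨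
      (Nat.card H).Coprime (Nat.card H') := by
  refine or_iff_not_imp_right.2 fun hcop => ?_
  obtain ⟨p, hp, h1, h2⟩ := Nat.Prime.not_coprime_iff_dvd.1 hcop
  haveI := Fact.mk hp
  exact hH.conj_of_common_prime hCN hH' h1 h2

/-- If `H` and `H'` share an element of order `p` and both have order divisible by `q ≠ p`, they
are equal. -/
theorem eq_of_common (hCN : IsCNGroup G) (hH : IsMaxNil H) (hH' : IsMaxNil H') {x : G} {p q : ℕ}
    (hp : p.Prime) [hq : Fact q.Prime] (hne : q ≠ p) (hx : x ∈ H) (hx' : x ∈ H')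
    (hxo : orderOf x = p) (h1 : q ∣ Nat.card H) (h2 : q ∣ Nat.card H') : H = H' := by
  obtain ⟨P, hP⟩ := hH.exists_sylow_le hCN h1
  obtain ⟨P', hP'⟩ := hH'.exists_sylow_le hCN h2
  have hx1 : x ≠ 1 := fun h => hp.ne_one (by rw [← hxo, h, orderOf_one])
  have key : ∀ K : Subgroup G, IsMaxNil K → x ∈ K → ∀ R : Sylow q G, (R : Subgroup G) ≤ K →
      (R : Subgroup G) ≤ Subgroup.centralizer ({x} : Set G) := by
    intro K hK hxK R hR u hu
    obtain ⟨k, hk⟩ := exists_orderOf_prime_pow R.2 hu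
    exact Subgroup.mem_centralizer_singleton_iff.2
      (commute_of_coprime_orders hK.1 (hR hu) hxK
        (coprime_orders hq.out hp hne hk (j := 1) (by rw [hxo, pow_one])))
  obtain rfl : P = P' :=
    sylow_eq_of_le_nilpotent (hCN x hx1) (key H hH hx P hP) (key H' hH' hx' P' hP')
  exact hH.eq_of_sylow_le hCN hH' (sylow_ne_bot h1 P) hP hP'

/-- A maximal nilpotent subgroup whose order is not a prime power is TI. -/
theorem isTI_of_not_isPrimePow (hCN : IsCNGroup G) (hH : IsMaxNil H)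
    (hpp : ¬ IsPrimePow (Nat.card H)) (h1 : Nat.card H ≠ 1) : IsTI H := by
  intro g hg
  by_contra hne
  obtain ⟨x, ⟨hx, hx'⟩, hx1⟩ :=
    (H ⊓ H.map (MulAut.conj g).toMonoidHom).bot_or_exists_ne_one.resolve_left hne
  obtain ⟨p, hp, -, n, hn⟩ := exists_prime_power_elt hx1
  obtain ⟨q, hq, hqd, hqp⟩ : ∃ q : ℕ, q.Prime ∧ q ∣ Nat.card H ∧ q ≠ p := by
    by_contra hall
    push Not at hall
    obtain ⟨k, hk⟩ : ∃ k, Nat.card H = p ^ k :=
      ⟨_, Nat.eq_prime_pow_of_unique_prime_dvd Nat.card_pos.ne' fun {d} hd hdd => hall d hd hdd⟩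
    refine hpp (hk ▸ hp.isPrimePow.pow ?_)
    rintro rfl
    exact h1 (by rw [hk, pow_zero])
  haveI := Fact.mk hq
  exact hg (hH.eq_of_common hCN (hH.map_conj g) hp hqp (pow_mem hx n) (pow_mem hx' n) hn hqd
    (by rw [card_conjBy]; exact hqd)).symm

/-- If the Sylow subgroups meet trivially then so do the conjugates of `H`. -/
theorem isTI_of_sylow_TI (hCN : IsCNGroup G) (hH : IsMaxNil H)
    (hS : ∀ p : ℕ, [Fact p.Prime] → ∀ P Q : Sylow p G,
      (P : Subgroup G) ⊓ (Q : Subgroup G) ≠ ⊥ → P = Q) : IsTI H := by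
  intro g hg
  by_contra hne
  obtain ⟨x, ⟨hx, hx'⟩, hx1⟩ :=
    (H ⊓ H.map (MulAut.conj g).toMonoidHom).bot_or_exists_ne_one.resolve_left hne
  obtain ⟨p, hp, -, n, hn⟩ := exists_prime_power_elt hx1
  haveI := Fact.mk hp
  have hdvd : p ∣ Nat.card H := hn ▸ Subgroup.orderOf_dvd_natCard H (pow_mem hx n)
  obtain ⟨P, hP⟩ := hH.exists_sylow_le hCN hdvd
  obtain ⟨Q, hQ⟩ := (hH.map_conj g).exists_sylow_le hCN (p := p) (by rw [card_conjBy]; exact hdvd)
  have hn' : orderOf (x ^ n) = p ^ 1 := by rw [hn, pow_one]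
  obtain rfl : P = Q := hS p P Q fun h => hp.ne_one (by
    have hm : x ^ n ∈ (P : Subgroup G) ⊓ (Q : Subgroup G) :=
      ⟨mem_sylow_of_le hH.1 hP (pow_mem hx n) hn',
        mem_sylow_of_le (hH.map_conj g).1 hQ (pow_mem hx' n) hn'⟩
    rw [h, Subgroup.mem_bot] at hm
    rw [← hn, hm, orderOf_one])
  exact hg ((hH.eq_of_sylow_le hCN (hH.map_conj g) (sylow_ne_bot hdvd P) hP hQ).symm)

/-- In a TI maximal nilpotent subgroup the centralizers of non-identity elements stay inside. -/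
theorem centralizer_le (hCN : IsCNGroup G) (hH : IsMaxNil H) (hTI : IsTI H) {x : G} (hx : x ∈ H)
    (hx1 : x ≠ 1) : Subgroup.centralizer ({x} : Set G) ≤ H := by
  rw [← Subgroup.subgroupOf_eq_top]
  refine Transfer.eq_top_of_prime_pow_orderOf_mem fun q hq g ⟨k, hk⟩ => ?_
  obtain ⟨y, hy⟩ := g
  rw [Subgroup.mem_subgroupOf]
  rw [Subgroup.orderOf_mk] at hk
  change y ∈ H
  have hyx : Commute y x := Subgroup.mem_centralizer_singleton_iff.1 hy
  have hyN : H.map (MulAut.conj y).toMonoidHom = H := by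
    by_contra h
    have hm : x ∈ H ⊓ H.map (MulAut.conj y).toMonoidHom :=
      ⟨hx, x, hx, show y * x * y⁻¹ = x from mul_inv_eq_of_eq_mul hyx.eq⟩
    rw [hTI y h, Subgroup.mem_bot] at hm
    exact hx1 hm
  by_cases hqd : q ∣ Nat.card H
  · set N := Subgroup.normalizer (H : Set G)
    haveI : (H.subgroupOf N).Normal := Subgroup.normal_in_normalizer
    have h1 : y ^ (H.subgroupOf N).index ∈ H :=
      (H.subgroupOf N).pow_index_mem ⟨y, mem_normalizer_of_conjBy_eq hyN⟩
    refine BGUniq.mem_of_pow_mem_of_coprime h1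
      (show y ^ (q ^ k) ∈ H by rw [← hk, pow_orderOf_eq_one]; exact H.one_mem) ?_
    refine ((Nat.Coprime.coprime_dvd_left
      (Subgroup.relIndex_dvd_index_of_le (Subgroup.le_normalizer (H := H)))
      (Nat.Coprime.coprime_dvd_right hqd (hH.coprime_index hCN).symm))).pow_right k
  · obtain ⟨z, hzH, hz1, hzc⟩ := exists_center_mem hH.1
      (fun h => hx1 (by rw [← Subgroup.mem_bot (G := G), ← h]; exact hx))
    have hcz : Commute y z := commute_of_common hCN hx1 hyx.symm
      (commute_of_le_centralizer hzc hx) (by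
        rw [hk]
        exact Nat.Coprime.coprime_dvd_right (Subgroup.orderOf_dvd_natCard H hzH)
          (((Nat.Prime.coprime_iff_not_dvd hq).2 hqd).pow_left k))
    rw [← hH.eq_centralizer hCN hz1 hzc]
    exact Subgroup.mem_centralizer_singleton_iff.2 hcz

end IsMaxNil

end Cfsg.Agent.CN7
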