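import Cfsg.Agent.CN7.Bad
import Cfsg.Agent.OddLocal44.Puig
import Cfsg.Agent.BGSigma.Basic

/-!
The local structure of a minimal simple CN group of odd order.
-/

set_option autoImplicit false

namespace Cfsg.Agent.CN7

open OddLocal44

variable {G : Type*} [Group G] [Finite G] {p : ℕ} [hp : Fact p.Prime]

/-- In a nilpotent group normalizers grow. -/
lemma lt_inf_normalizer {R S : Subgroup G} (hR : Group.IsNilpotent R) (hlt : S < R) :
    S < R ⊓ Subgroup.normalizer (S : Set G) := by
  haveI := hR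
  refine lt_of_le_of_ne (le_inf hlt.le Subgroup.le_normalizer) fun heq => ?_
  have h1 : S.subgroupOf R < ⊤ :=
    lt_top_iff_ne_top.2 fun h => hlt.not_ge (Subgroup.subgroupOf_eq_top.1 h)
  obtain ⟨⟨x, hx⟩, hxN, hxS⟩ :=
    SetLike.exists_of_lt (Group.normalizerCondition_of_isNilpotent _ h1)
  refine hxS (Subgroup.mem_subgroupOf.2 (heq.symm ▸ Subgroup.mem_inf.2 ⟨hx, ?_⟩))
  show x ∈ Subgroup.normalizer (S : Set G)
  rw [Subgroup.mem_normalizer_iff]
  intro u
  constructor
  · intro hu
    exact Subgroup.mem_subgroupOf.1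
      ((Subgroup.mem_normalizer_iff.1 hxN ⟨u, hlt.le hu⟩).1 (Subgroup.mem_subgroupOf.2 hu))
  · intro hu
    have huR : u ∈ R := by
      have := R.mul_mem (R.mul_mem (R.inv_mem hx) (hlt.le hu)) hx
      simpa [mul_assoc] using this
    exact Subgroup.mem_subgroupOf.1 ((Subgroup.mem_normalizer_iff.1 hxN ⟨u, huR⟩).2
      (Subgroup.mem_subgroupOf.2 hu))

omit [Finite G] hp in
lemma pCore_ne_bot_of_normalized {N D : Subgroup G} (hD : IsPGroup p D) (h1 : D ≠ ⊥) (hle : D ≤ N)
    (hN : N ≤ Subgroup.normalizer (D : Set G)) : pCore p N ≠ ⊥ := by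
  intro h
  have hn : (D.subgroupOf N).Normal := (Subgroup.normal_subgroupOf_iff_le_normalizer hle).2 hN
  have := (Thompson.le_pCore hn hD.comap_subtype).trans h.le
  rw [le_bot_iff, Subgroup.subgroupOf_eq_bot, disjoint_iff, inf_eq_left.2 hle] at this
  exact h1 this

/-- A Sylow subgroup contained in `M` gives the others. -/
lemma exists_sylow_in {M X : Subgroup G} (R : Sylow p G) (hRM : (R : Subgroup G) ≤ M)
    (hX : IsPGroup p X) (hXM : X ≤ M) :
    ∃ R3 : Sylow p G, X ≤ R3 ∧ (R3 : Subgroup G) ≤ M := by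
  obtain ⟨T, hT⟩ := (hX.comap_subtype (K := M)).exists_le_sylow
  obtain ⟨R3, hR3⟩ := (T.2.map M.subtype).exists_le_sylow
  have heq : (T : Subgroup M).map M.subtype = (R3 : Subgroup G) := by
    refine Subgroup.eq_of_le_of_card_ge hR3 ?_
    rw [Subgroup.card_map_of_injective M.subtype_injective, R3.card_eq_multiplicity,
      ← R.card_eq_multiplicity, T.card_eq_multiplicity, ← (R.subtype hRM).card_eq_multiplicity]
    exact (Nat.card_congr (Subgroup.subgroupOfEquivOfLe hRM).toEquiv).ge
  refine ⟨R3, fun x hx => ?_, heq ▸ Subgroup.map_subtype_le _⟩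
  rw [← heq]
  exact ⟨⟨x, hXM hx⟩, hT (Subgroup.mem_subgroupOf.2 hx), rfl⟩

lemma centerPuig_ne_bot {R : Subgroup G} (hR : IsPGroup p R) (h1 : R ≠ ⊥) :
    centerPuig R ≠ ⊥ := by
  have hlow : relLower R ≤ R := (relLower_le_relUpper R).trans (relUpper_le R)
  have hne : relUpper R ≠ ⊥ := by
    intro h
    have h2 := inf_centralizer_relStep_le hR hlow
    rw [relStep_relLower, h] at h2
    exact h1 (le_bot_iff.1 fun x hx => h2 ⟨hx, Subgroup.mem_centralizer_iff.2 fun y hy => by
      rw [Subgroup.mem_bot.1 hy, one_mul, mul_one]⟩)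
  obtain ⟨z, hz, hz1, hzc⟩ := exists_center_mem (K := relUpper R)
    (hR.to_le (relUpper_le R)).isNilpotent hne
  exact fun h => hz1 (by rw [← Subgroup.mem_bot (G := G), ← h]; exact ⟨hz, hzc⟩)

variable (hG : IsMinSimpleOddOrder G) (hCN : IsCNGroup G)
include hG

omit hp in
lemma not_isNilpotent : ¬ Group.IsNilpotent G := fun h =>
  BGSigma.not_isSolvable hG (Coprime.isSolvable_of_isNilpotent' h)

lemma normalizer_pgroup_ne_top {D : Subgroup G} (hD : IsPGroup p D) (h1 : D ≠ ⊥) :
    Subgroup.normalizer (D : Set G) ≠ ⊤ :=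
  BGSigma.normalizer_ne_top hG h1 fun h => not_isNilpotent hG
    (Group.isNilpotent_top.1 (h ▸ hD.isNilpotent))

include hCN

/-- A bad proper subgroup is contained in `N(Z(L(R)))` for a Sylow subgroup `R` of `G`. -/
theorem exists_full (n : ℕ) : ∀ (N : Subgroup G) (S : Sylow p N), N ≠ ⊤ → Bad p N →
    Nat.card G - Nat.card S = n →
      ∃ R : Sylow p G, (S : Subgroup N).map N.subtype ≤ R ∧
        N ≤ Subgroup.normalizer (centerPuig (R : Subgroup G) : Set G) := by
  induction n using Nat.strong_induction_on with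
  | _ n ih =>
    intro N S hNtop hbad hn
    haveI := BGSigma.isSolvable_of_ne_top hG hNtop
    have hodd : Odd (Nat.card N) := hG.1.of_dvd_nat (Subgroup.card_subgroup_dvd_card N)
    have hp2 : p ≠ 2 := by
      rintro rfl
      have h2 : 2 ∣ Nat.card (pCore 2 N) := by
        obtain ⟨k, hk⟩ := (Thompson.isPGroup_pCore (p := 2) (G := N)).exists_card_eq
        rw [hk]
        exact dvd_pow_self 2 (fun h => hbad.1 (Subgroup.card_eq_one.1 (by rw [hk, h, pow_zero])))
      exact Nat.not_even_iff_odd.2 hodd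
        (even_iff_two_dvd.2 (h2.trans (Subgroup.card_subgroup_dvd_card _)))
    set S' := (S : Subgroup N).map N.subtype with hS'
    have hSN : S' ≤ N := Subgroup.map_subtype_le _
    have hS'p : IsPGroup p S' := S.2.map _
    have hNZ : N ≤ Subgroup.normalizer (centerPuig S' : Set G) := by
      haveI := centerPuig_normal hp2 hodd (pPrimeCore_eq_bot (isCN_subgroup hCN N) hbad) S
      rw [← map_centerPuig N.subtype (H := (S : Subgroup N))
        fun x _ hx => N.subtype_injective (hx.trans (map_one N.subtype).symm)]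
      exact fun x hx => Subgroup.le_normalizer_map N.subtype
        ⟨⟨x, hx⟩, by rw [Subgroup.normalizer_eq_top_iff.2 inferInstance]; trivial, rfl⟩
    obtain ⟨R0, hR0⟩ := hS'p.exists_le_sylow
    rcases hR0.eq_or_lt with heq | hlt
    · exact ⟨R0, hR0, heq ▸ hNZ⟩
    set X := (R0 : Subgroup G) ⊓ Subgroup.normalizer (S' : Set G) with hX
    have hlt' : S' < X := lt_inf_normalizer R0.2.isNilpotent hlt
    set N1 := Subgroup.normalizer (centerPuig S' : Set G) with hN1
    have hS1 : S' ≠ ⊥ := fun h => by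
      rw [hS', Subgroup.map_eq_bot_iff_of_injective _ N.subtype_injective] at h
      exact hbad.1 (le_bot_iff.1 ((Thompson.pCore_le_sylow S).trans h.le))
    have hZp : IsPGroup p (centerPuig S') := hS'p.to_le (inf_le_left.trans (relUpper_le _))
    have hXN1 : X ≤ N1 := inf_le_right.trans (le_normalizer_centerPuig le_rfl)
    have hXp : IsPGroup p X := R0.2.to_le inf_le_left
    have hbad1 : Bad p N1 := by
      refine ⟨pCore_ne_bot_of_normalized hZp (centerPuig_ne_bot hS'p hS1) Subgroup.le_normalizer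
        le_rfl, fun T hT => ?_⟩
      haveI := hT
      haveI : Subsingleton (Sylow p N1) := (T.unique_of_normal hT).instSubsingleton
      have hT'n : ((T : Subgroup N1).comap (Subgroup.inclusion hNZ)).Normal :=
        hT.comap _
      have hle : (S : Subgroup N) ≤ (T : Subgroup N1).comap (Subgroup.inclusion hNZ) := by
        intro s hs
        obtain ⟨T', hT'⟩ := (S.2.map (Subgroup.inclusion hNZ)).exists_le_sylow
        rw [Subsingleton.elim T T']
        exact hT' ⟨s, hs, rfl⟩
      have heq := S.3 (T.2.comap_of_injective _ (Subgroup.inclusion_injective hNZ)) hle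
      exact hbad.2 S (heq ▸ hT'n)
    obtain ⟨T, hT⟩ := (hXp.comap_subtype (K := N1)).exists_le_sylow
    have hXT : X ≤ (T : Subgroup N1).map N1.subtype := fun x hx =>
      ⟨⟨x, hXN1 hx⟩, hT (Subgroup.mem_subgroupOf.2 hx), rfl⟩
    have hcard : Nat.card S < Nat.card T := by
      have h1 : Nat.card S = Nat.card S' :=
        (Subgroup.card_map_of_injective N.subtype_injective).symm
      rw [h1, ← Subgroup.card_map_of_injective (K := (T : Subgroup N1)) N1.subtype_injective]
      by_contra hge
      exact (hlt'.trans_le hXT).ne (Subgroup.eq_of_le_of_card_ge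
        (hlt'.le.trans hXT) (not_lt.1 hge))
    have hTG : Nat.card T ≤ Nat.card G :=
      ((Subgroup.card_subgroup_dvd_card _).trans (Subgroup.card_subgroup_dvd_card _) |>
        Nat.le_of_dvd Nat.card_pos)
    obtain ⟨R, hR, hN1R⟩ := ih _ (by omega) N1 T
      (normalizer_pgroup_ne_top hG hZp (centerPuig_ne_bot hS'p hS1)) hbad1 rfl
    exact ⟨R, hlt'.le.trans (hXT.trans hR), hNZ.trans hN1R⟩

omit hCN in
lemma centerPuig_normalizer_conj {R : Sylow p G} {m : G}
    (hm : m ∈ Subgroup.normalizer (centerPuig (R : Subgroup G) : Set G)) :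
    centerPuig ((m • R : Sylow p G) : Subgroup G) = centerPuig (R : Subgroup G) := by
  have h1 := map_centerPuig (MulAut.conj m).toMonoidHom (H := (R : Subgroup G))
    fun x _ hx => (MulAut.conj m).injective (hx.trans (map_one _).symm)
  exact h1.symm.trans (conjBy_eq_of_mem_normalizer hm)

/-- `M = N(Z(L(R)))` controls intersections of Sylow subgroups. -/
theorem sylow_le_of_meet (R : Sylow p G)
    (hbad : Bad p ↥(Subgroup.normalizer (centerPuig (R : Subgroup G) : Set G))) (n : ℕ) :
    ∀ R1 R' : Sylow p G,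
      (R1 : Subgroup G) ≤ Subgroup.normalizer (centerPuig (R : Subgroup G) : Set G) →
      (R1 : Subgroup G) ⊓ (R' : Subgroup G) ≠ ⊥ →
      Nat.card G - Nat.card ↥((R1 : Subgroup G) ⊓ (R' : Subgroup G)) = n →
      (R' : Subgroup G) ≤ Subgroup.normalizer (centerPuig (R : Subgroup G) : Set G) := by
  have hRM : (R : Subgroup G) ≤ Subgroup.normalizer (centerPuig (R : Subgroup G) : Set G) :=
    Subgroup.le_normalizer.trans (le_normalizer_centerPuig le_rfl)
  set M := Subgroup.normalizer (centerPuig (R : Subgroup G) : Set G) with hM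
  have hN : ∀ R2 : Sylow p G, (R2 : Subgroup G) ≤ M →
      Subgroup.normalizer (centerPuig (R2 : Subgroup G) : Set G) = M := by
    intro R2 h2
    obtain ⟨⟨m, hm⟩, he⟩ := MulAction.exists_smul_eq M (R.subtype hRM) (R2.subtype h2)
    rw [Sylow.smul_subtype] at he
    have h3 : m • R = R2 := Sylow.subtype_injective he
    rw [← h3, centerPuig_normalizer_conj hG hm]
  induction n using Nat.strong_induction_on with
  | _ n ih =>
    intro R1 R' hR1 hne hn
    set D := (R1 : Subgroup G) ⊓ (R' : Subgroup G) with hD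
    rcases eq_or_ne R1 R' with rfl | hdiff
    · exact hR1
    have hlt1 : D < R1 := lt_of_le_of_ne inf_le_left fun h => hdiff
      (Sylow.ext (R1.3 R'.2 (h.ge.trans inf_le_right)).symm)
    have hlt2 : D < R' := lt_of_le_of_ne inf_le_right fun h => hdiff
      (Sylow.ext (R'.3 R1.2 (h.ge.trans inf_le_left)))
    set X1 := (R1 : Subgroup G) ⊓ Subgroup.normalizer (D : Set G) with hX1
    set X2 := (R' : Subgroup G) ⊓ Subgroup.normalizer (D : Set G) with hX2
    have h1 : D < X1 := lt_inf_normalizer R1.2.isNilpotent hlt1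
    have h2 : D < X2 := lt_inf_normalizer R'.2.isNilpotent hlt2
    have hDp : IsPGroup p D := R1.2.to_le inf_le_left
    set N := Subgroup.normalizer (D : Set G) with hNdef
    have step : ∀ A B : Sylow p G, (A : Subgroup G) ≤ M →
        D < (A : Subgroup G) ⊓ (B : Subgroup G) → (B : Subgroup G) ≤ M := by
      intro A B hA hAB
      have hne' : (A : Subgroup G) ⊓ (B : Subgroup G) ≠ ⊥ := (bot_le.trans_lt hAB).ne'
      refine ih _ ?_ A B hA hne' rfl
      have hc : Nat.card D < Nat.card ↥((A : Subgroup G) ⊓ (B : Subgroup G)) := by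
        by_contra hge
        exact hAB.ne (Subgroup.eq_of_le_of_card_ge hAB.le (not_lt.1 hge))
      have := Nat.le_of_dvd Nat.card_pos
        (Subgroup.card_subgroup_dvd_card ((A : Subgroup G) ⊓ (B : Subgroup G)))
      omega
    obtain ⟨T, hT⟩ := ((R1.2.to_le (inf_le_left : X1 ≤ _)).comap_subtype (K := N)).exists_le_sylow
    have hX1T : X1 ≤ (T : Subgroup N).map N.subtype := fun x hx =>
      ⟨⟨x, inf_le_right (α := Subgroup G) hx⟩, hT (Subgroup.mem_subgroupOf.2 hx), rfl⟩
    by_cases hTn : (T : Subgroup N).Normal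
    · haveI : Subsingleton (Sylow p N) := (T.unique_of_normal hTn).instSubsingleton
      obtain ⟨T2, hT2⟩ :=
        ((R'.2.to_le (inf_le_left : X2 ≤ _)).comap_subtype (K := N)).exists_le_sylow
      have hX2T : X2 ≤ (T : Subgroup N).map N.subtype := fun x hx =>
        ⟨⟨x, inf_le_right (α := Subgroup G) hx⟩, by
          rw [Subsingleton.elim T T2]; exact hT2 (Subgroup.mem_subgroupOf.2 hx), rfl⟩
      obtain ⟨R'', hR''⟩ := (T.2.map N.subtype).exists_le_sylow
      have hM'' := step R1 R'' hR1 (h1.trans_le (le_inf inf_le_left (hX1T.trans hR'')))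
      exact step R'' R' hM'' (h2.trans_le (le_inf (hX2T.trans hR'') inf_le_left))
    · have hNbad : Bad p N := ⟨pCore_ne_bot_of_normalized hDp hne Subgroup.le_normalizer le_rfl,
        fun T' hT' => hTn (by
          haveI : Subsingleton (Sylow p N) := (T'.unique_of_normal hT').instSubsingleton
          rw [Subsingleton.elim T T']; exact hT')⟩
      obtain ⟨R'', hR'', hNR⟩ := exists_full hG hCN _ N T
        (normalizer_pgroup_ne_top hG hDp hne) hNbad rfl
      have hM'' := step R1 R'' hR1 (h1.trans_le (le_inf inf_le_left (hX1T.trans hR'')))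
      rw [hN R'' hM''] at hNR
      obtain ⟨R3, hX23, hR3M⟩ := exists_sylow_in R hRM (R'.2.to_le (inf_le_left : X2 ≤ _))
        ((inf_le_right : X2 ≤ _).trans hNR)
      exact step R3 R' hR3M (h2.trans_le (le_inf hX23 inf_le_left))

/-- A minimal simple CN group of odd order has no bad proper subgroup. -/
theorem not_bad {N : Subgroup G} (hN : N ≠ ⊤) : ¬ Bad p N := by
  intro hbadN
  obtain ⟨R, -, hNM⟩ := exists_full hG hCN _ N default hN hbadN rfl
  have hRM : (R : Subgroup G) ≤ Subgroup.normalizer (centerPuig (R : Subgroup G) : Set G) :=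
    Subgroup.le_normalizer.trans (le_normalizer_centerPuig le_rfl)
  have hR1 : (R : Subgroup G) ≠ ⊥ := fun h => by
    obtain ⟨q, hq, hq1⟩ := (pCore p N).bot_or_exists_ne_one.resolve_left hbadN.1
    obtain ⟨R', hR'⟩ := ((Thompson.isPGroup_pCore (p := p) (G := N)).map N.subtype).exists_le_sylow
    obtain ⟨g, hg⟩ := MulAction.exists_smul_eq G R R'
    have h1 : (R' : Subgroup G) = ⊥ := by
      rw [← hg]
      exact (Subgroup.map_eq_bot_iff_of_injective _ (MulAut.conj g).injective).2 h
    exact hq1 (Subtype.ext (Subgroup.mem_bot.1 (h1 ▸ hR' ⟨q, hq, rfl⟩)))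
  set M := Subgroup.normalizer (centerPuig (R : Subgroup G) : Set G) with hM
  have hZp : IsPGroup p (centerPuig (R : Subgroup G)) :=
    R.2.to_le (inf_le_left.trans (relUpper_le _))
  have hMtop : M ≠ ⊤ := normalizer_pgroup_ne_top hG hZp (centerPuig_ne_bot R.2 hR1)
  have hbadM : Bad p M := by
    refine ⟨pCore_ne_bot_of_normalized hZp (centerPuig_ne_bot R.2 hR1) Subgroup.le_normalizer
      le_rfl, fun T hT => ?_⟩
    haveI : Subsingleton (Sylow p M) := (T.unique_of_normal hT).instSubsingleton
    haveI : Subsingleton (Sylow p N) := by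
      refine ⟨fun S S' => Sylow.ext ?_⟩
      have key : ∀ U : Sylow p N,
          (U : Subgroup N) = (T : Subgroup M).comap (Subgroup.inclusion hNM) := by
        intro U
        obtain ⟨T', hT'⟩ := (U.2.map (Subgroup.inclusion hNM)).exists_le_sylow
        rw [Subsingleton.elim T' T] at hT'
        exact (U.3 (T.2.comap_of_injective _ (Subgroup.inclusion_injective hNM))
          fun s hs => hT' ⟨s, hs, rfl⟩).symm
      rw [key S, key S']
    exact hbadN.2 default (Sylow.normal_of_subsingleton _)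
  haveI := BGSigma.isSolvable_of_ne_top hG hMtop
  obtain ⟨A, -, -, -, hAp, -, hder, -⟩ := bad_structure (isCN_subgroup hCN M) hbadM
  refine not_sylow_le hbadM hAp (R.subtype hRM) ?_
  refine le_trans ?_ hder
  have hres : pResidual p G = ⊤ := by
    refine (BGSigma.normal_eq_bot_or_top hG inferInstance).resolve_left fun h => ?_
    have h1 : IsPGroup p (G ⧸ pResidual p G) := Thompson.isPGroup_quotient_pResidual
    exact not_isNilpotent hG ((h1.of_equiv
      ((QuotientGroup.quotientMulEquivOfEq h).trans QuotientGroup.quotientBot)).isNilpotent)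
  have hctrl : ∀ x ∈ (R : Subgroup G), ∀ y ∈ (R : Subgroup G), (∃ g : G, g * x * g⁻¹ = y) →
      ∃ k ∈ M, k * x * k⁻¹ = y := by
    rintro x hx y hy ⟨g, rfl⟩
    rcases eq_or_ne x 1 with rfl | hx1
    · exact ⟨1, M.one_mem, by simp⟩
    have hne : (R : Subgroup G) ⊓ ((g • R : Sylow p G) : Subgroup G) ≠ ⊥ := fun h => hx1 (by
      have hm : g * x * g⁻¹ ∈ (R : Subgroup G) ⊓ ((g • R : Sylow p G) : Subgroup G) :=
        ⟨hy, ⟨x, hx, rfl⟩⟩
      rw [h, Subgroup.mem_bot, mul_inv_eq_one] at hm
      exact mul_eq_left.1 hm)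
    have hgR := sylow_le_of_meet hG hCN R hbadM _ R (g • R) hRM hne rfl
    obtain ⟨⟨m, hm⟩, he⟩ := MulAction.exists_smul_eq M (R.subtype hRM) ((g • R).subtype hgR)
    rw [Sylow.smul_subtype] at he
    have h3 : m • R = g • R := Sylow.subtype_injective he
    have h4 : (m⁻¹ * g) • R = R := by rw [mul_smul, ← h3, inv_smul_smul]
    have h5 : m⁻¹ * g ∈ M := by
      have h6 : m⁻¹ * g ∈ Subgroup.normalizer ((R : Subgroup G) : Set G) :=
        Sylow.smul_eq_iff_mem_normalizer.1 h4
      exact le_normalizer_centerPuig le_rfl h6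
    refine ⟨g, ?_, rfl⟩
    simpa using M.mul_mem hm h5
  intro x hx
  have h7 := (Transfer.sylow_le_focalSubgroup_of_pResidual_eq_top R hres).trans
    (Transfer.focalSubgroup_le_of_control hctrl) (Subgroup.mem_subgroupOf.1 hx)
  have h8 : ⁅(R : Subgroup G), M⁆ ≤ ⁅M, M⁆ := Subgroup.commutator_mono hRM le_rfl
  have h9 : ⁅M, M⁆ = (commutator M).map M.subtype := by
    rw [commutator_def, Subgroup.map_commutator, ← MonoidHom.range_eq_map, Subgroup.range_subtype]
  obtain ⟨u, hu, hux⟩ := h9 ▸ h8 h7
  exact (M.subtype_injective hux) ▸ hu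

/-- The Sylow subgroups of a minimal simple CN group of odd order are TI. -/
theorem sylow_TI_aux (n : ℕ) : ∀ P Q : Sylow p G, (P : Subgroup G) ⊓ (Q : Subgroup G) ≠ ⊥ →
    Nat.card G - Nat.card ↥((P : Subgroup G) ⊓ (Q : Subgroup G)) = n → P = Q := by
  induction n using Nat.strong_induction_on with
  | _ n ih =>
    intro R1 R' hne hn
    by_contra hdiff
    set D := (R1 : Subgroup G) ⊓ (R' : Subgroup G) with hD
    have hlt1 : D < R1 := lt_of_le_of_ne inf_le_left fun h => hdiff
      (Sylow.ext (R1.3 R'.2 (h.ge.trans inf_le_right)).symm)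
    have hlt2 : D < R' := lt_of_le_of_ne inf_le_right fun h => hdiff
      (Sylow.ext (R'.3 R1.2 (h.ge.trans inf_le_left)))
    set X1 := (R1 : Subgroup G) ⊓ Subgroup.normalizer (D : Set G) with hX1
    set X2 := (R' : Subgroup G) ⊓ Subgroup.normalizer (D : Set G) with hX2
    have h1 : D < X1 := lt_inf_normalizer R1.2.isNilpotent hlt1
    have h2 : D < X2 := lt_inf_normalizer R'.2.isNilpotent hlt2
    have hDp : IsPGroup p D := R1.2.to_le inf_le_left
    set N := Subgroup.normalizer (D : Set G) with hNdef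
    have step : ∀ A B : Sylow p G, D < (A : Subgroup G) ⊓ (B : Subgroup G) → A = B := by
      intro A B hAB
      refine ih _ ?_ A B (bot_le.trans_lt hAB).ne' rfl
      have hc : Nat.card D < Nat.card ↥((A : Subgroup G) ⊓ (B : Subgroup G)) := by
        by_contra hge
        exact hAB.ne (Subgroup.eq_of_le_of_card_ge hAB.le (not_lt.1 hge))
      have := Nat.le_of_dvd Nat.card_pos
        (Subgroup.card_subgroup_dvd_card ((A : Subgroup G) ⊓ (B : Subgroup G)))
      omega
    obtain ⟨T, hTn⟩ : ∃ T : Sylow p N, (T : Subgroup N).Normal := by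
      by_contra hall
      exact not_bad hG hCN (normalizer_pgroup_ne_top hG hDp hne)
        ⟨pCore_ne_bot_of_normalized hDp hne Subgroup.le_normalizer le_rfl,
          fun T hT => hall ⟨T, hT⟩⟩
    haveI : Subsingleton (Sylow p N) := (T.unique_of_normal hTn).instSubsingleton
    obtain ⟨R'', hR''⟩ := (T.2.map N.subtype).exists_le_sylow
    have key : ∀ X : Subgroup G, IsPGroup p X → X ≤ N → X ≤ R'' := by
      intro X hX hXN x hx
      obtain ⟨T2, hT2⟩ := (hX.comap_subtype (K := N)).exists_le_sylow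
      rw [Subsingleton.elim T2 T] at hT2
      exact hR'' ⟨⟨x, hXN hx⟩, hT2 (Subgroup.mem_subgroupOf.2 hx), rfl⟩
    have e1 := step R1 R'' (h1.trans_le
      (le_inf inf_le_left (key X1 (R1.2.to_le inf_le_left) inf_le_right)))
    have e2 := step R' R'' (h2.trans_le
      (le_inf inf_le_left (key X2 (R'.2.to_le inf_le_left) inf_le_right)))
    exact hdiff (e1.trans e2.symm)

theorem sylow_TI {P Q : Sylow p G} (h : (P : Subgroup G) ⊓ (Q : Subgroup G) ≠ ⊥) : P = Q :=
  sylow_TI_aux hG hCN _ P Q h rfl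

end Cfsg.Agent.CN7
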