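import Cfsg.Agent.CN7.MaxNil
import Cfsg.Agent.Lib.Frobenius.Complement
import Cfsg.Prelude.Def_OddOrderLocal

/-!
CN groups with a nontrivial normal Sylow subgroup, and the shape of their Frobenius complements.
-/

set_option autoImplicit false

namespace Cfsg.Agent.CN7

variable {G : Type*} [Group G] [Finite G]

/-- With a nontrivial normal Sylow subgroup, `fittingHall G` is a maximal nilpotent subgroup. -/
theorem isMaxNil_fittingHall (hCN : IsCNGroup G) {p : ℕ} [Fact p.Prime] (P : Sylow p G)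
    (hP1 : (P : Subgroup G) ≠ ⊥) (hPn : (P : Subgroup G).Normal) :
    IsMaxNil (fittingHall G) ∧ (P : Subgroup G) ≤ fittingHall G := by
  obtain ⟨H, hH, hPH⟩ := exists_isMaxNil (K := (P : Subgroup G)) P.2.isNilpotent
  have hmapP : ∀ g : G, (P : Subgroup G).map (MulAut.conj g).toMonoidHom = P := fun g =>
    OddLocal44.conjBy_eq_of_mem_normalizer
      (by rw [Subgroup.normalizer_eq_top_iff.2 hPn]; trivial)
  have hinv : ∀ g : G, H.map (MulAut.conj g).toMonoidHom = H := fun g =>
    ((hH.map_conj g).eq_of_sylow_le hCN hH hP1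
      ((hmapP g).ge.trans (Subgroup.map_mono hPH)) hPH)
  have hHn : H.Normal := ⟨fun n hn g => (hinv g).le ⟨n, hn, rfl⟩⟩
  have hle : H ≤ fittingHall G := BGUniq.le_fittingHall hHn hH.1 (hH.coprime_index hCN)
  have heq : fittingHall G = H := hH.2 _ (BGUniq.fittingHall_isNilpotent G) hle
  exact heq.symm ▸ ⟨hH, hPH⟩

theorem frobenius_of_normal_sylow (hCN : IsCNGroup G) (hnn : ¬ Group.IsNilpotent G) {p : ℕ}
    [Fact p.Prime] (P : Sylow p G) (hP1 : (P : Subgroup G) ≠ ⊥) (hPn : (P : Subgroup G).Normal) :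
    fittingHall G ≠ ⊥ ∧ fittingHall G ≠ ⊤ ∧
      ∃ E : Subgroup G, Subgroup.IsComplement' (fittingHall G) E ∧ IsFrobeniusComplement E ∧
        (∀ e ∈ E, e ≠ 1 → fittingHall G ⊓ Subgroup.centralizer ({e} : Set G) = ⊥) ∧
        Frobenius.IsFPF E (fittingHall G) ∧ Group.IsNilpotent E ∧
        Group.IsNilpotent (G ⧸ fittingHall G) := by
  obtain ⟨hH, hPH⟩ := isMaxNil_fittingHall hCN P hP1 hPn
  set H := fittingHall G with hHdef
  have hH1 : H ≠ ⊥ := fun h => hP1 (le_bot_iff.1 (hPH.trans h.le))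
  have hH2 : H ≠ ⊤ := fun h => hnn (Group.isNilpotent_top.1 (h ▸ hH.1))
  have hTI : IsTI H := fun g hg => absurd
    (OddLocal44.conjBy_eq_of_mem_normalizer
      (by rw [Subgroup.normalizer_eq_top_iff.2 inferInstance]; trivial)) hg
  obtain ⟨E, hE⟩ := Subgroup.exists_right_complement'_of_coprime (BGUniq.fittingHall_coprime G)
  have hE1 : E ≠ ⊥ := fun h => hH2 (Subgroup.isComplement'_bot_right.1 (h ▸ hE))
  have hfix : ∀ e ∈ E, e ≠ 1 → H ⊓ Subgroup.centralizer ({e} : Set G) = ⊥ := by
    intro e he he1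
    rw [Subgroup.eq_bot_iff_forall]
    rintro h ⟨hh, hhc⟩
    by_contra hne
    exact he1 (Subgroup.mem_bot.1 (hE.disjoint.le_bot ⟨hH.centralizer_le hCN hTI hh hne
      (Subgroup.mem_centralizer_singleton_iff.2
        (Subgroup.mem_centralizer_singleton_iff.1 hhc).symm), he⟩))
  have hf : Frobenius.IsFPF E H := Frobenius.isFPF_of_normal hfix
  obtain ⟨c, hc, hc1⟩ := (Subgroup.center E).bot_or_exists_ne_one.resolve_left
    (hf.center_ne_bot hH1 hE1)
  have hEnil : Group.IsNilpotent E := isNilpotent_of_le_centralizer hCN (z := (c : G))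
    (fun h => hc1 (Subtype.ext h))
    (fun s hs => (congrArg Subtype.val (Subgroup.mem_center_iff.1 hc ⟨s, hs⟩)).symm)
  haveI := hEnil
  exact ⟨hH1, hH2, E, hE, Frobenius.isFrobeniusComplement_of_fixedPointFree hE hH1 hE1 hfix, hfix,
    hf, hEnil, Group.nilpotent_of_mulEquiv hE.symm.QuotientMulEquiv.symm⟩

/-- A nilpotent fixed-point-free group is cyclic, or cyclic of odd order times quaternion. -/
theorem nilpotent_fpf_shape {E V : Subgroup G} (h : Frobenius.IsFPF E V) (hV : V ≠ ⊥)
    (hnil : Group.IsNilpotent E) :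
    IsCyclic E ∨ ∃ C Q : Subgroup G, C ⊔ Q = E ∧ (∀ a ∈ C, ∀ b ∈ Q, a * b = b * a) ∧ IsCyclic C ∧
      Odd (Nat.card C) ∧ ∃ n : ℕ, Nonempty (↥Q ≃* QuaternionGroup (2 ^ n)) := by
  haveI := hnil
  haveI : Fact (Nat.Prime 2) := ⟨Nat.prime_two⟩
  set S : Sylow 2 E := default with hS
  rcases h.sylow_isCyclic_or_quaternion hV S with hc | ⟨-, n, ⟨f⟩⟩
  · refine Or.inl ?_
    haveI : IsZGroup E := ⟨fun r hr T => by
      haveI := Fact.mk hr
      rcases h.sylow_isCyclic_or_quaternion hV T with hc' | ⟨rfl, -⟩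
      · exact hc'
      · haveI := S.unique_of_normal (Transfer.nilpotent_sylow_normal hnil S)
        rw [Subsingleton.elim T S]
        exact hc⟩
    infer_instance
  · refine Or.inr ?_
    haveI := Transfer.nilpotent_sylow_normal hnil S
    obtain ⟨C, hC⟩ := Subgroup.exists_right_complement'_of_coprime (N := (S : Subgroup E))
      S.card_coprime_index
    have hCodd : ¬ 2 ∣ Nat.card C := by
      rw [← hC.symm.index_eq_card]
      exact S.not_dvd_index
    have hcardC : Nat.card (C.map E.subtype) = Nat.card C :=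
      Subgroup.card_map_of_injective E.subtype_injective
    refine ⟨C.map E.subtype, (S : Subgroup E).map E.subtype, ?_, ?_, ?_, ?_, n,
      ⟨((S : Subgroup E).equivMapOfInjective _ E.subtype_injective).symm.trans f⟩⟩
    · rw [← Subgroup.map_sup, sup_comm, hC.sup_eq_top, ← MonoidHom.range_eq_map,
        Subgroup.range_subtype]
    · rintro _ ⟨a, ha, rfl⟩ _ ⟨b, hb, rfl⟩
      obtain ⟨j, hj⟩ := exists_orderOf_prime_pow S.2 hb
      refine congrArg Subtype.val (Transfer.nilpotent_commute_of_coprime hnil (x := a) (y := b) ?_).eq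
      rw [hj]
      exact (Nat.Coprime.coprime_dvd_left (Subgroup.orderOf_dvd_natCard C ha)
        ((Nat.Prime.coprime_iff_not_dvd Nat.prime_two).2 hCodd).symm).pow_right j
    · haveI : Group.IsNilpotent (C.map E.subtype) := isNilpotent_map_of_injective _ inferInstance
      haveI : IsZGroup (C.map E.subtype) := ⟨fun r hr T => by
        haveI := Fact.mk hr
        rcases (h.mono_left (Subgroup.map_subtype_le C)).sylow_isCyclic_or_quaternion hV T with
          hc' | ⟨rfl, m, ⟨g⟩⟩
        · exact hc'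
        · exfalso
          have h1 := Nat.card_congr g.toEquiv
          rw [Nat.card_eq_fintype_card (α := QuaternionGroup _), QuaternionGroup.card] at h1
          exact hCodd (hcardC ▸ dvd_trans ⟨2 * 2 ^ m, by rw [h1]; ring⟩
            (Subgroup.card_subgroup_dvd_card (T : Subgroup (C.map E.subtype))))⟩
      infer_instance
    · rw [hcardC]
      exact Nat.odd_iff.2 (by omega)

end Cfsg.Agent.CN7
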