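import Cfsg.Agent.CN7.Bad
import Cfsg.Agent.CN7.NormalSylow
import Cfsg.Agent.CN7.MinSimple

/-!
No subgroup of a minimal simple CN group of odd order is a three-step group.
-/

set_option autoImplicit false

namespace Cfsg.Agent.CN7

variable {G : Type*} [Group G]

/-- A three-step group (for any natural number `p`) with a normal Sylow subgroup for some prime
dividing the order of its Fitting subgroup cannot be a CN group. -/
theorem exists_bad_of_threeStep [Finite G] [Group.IsSolvable G] (hCN : IsCNGroup G) {p : ℕ}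
    (h : IsThreeStepGroup p G) : ∃ r : ℕ, r.Prime ∧ Bad r G := by
  obtain ⟨hcore, A, hA1, -, -, hAp, -, hne, ⟨n, hidx⟩, hfix, hout⟩ := h
  set Q := pCore p G with hQ
  have hQp : IsPGroup p Q := Thompson.isPGroup_pCore
  obtain ⟨a, haA, ha1⟩ := A.bot_or_exists_ne_one.resolve_left hA1
  obtain ⟨q0, hq0, hq01⟩ := Q.bot_or_exists_ne_one.resolve_left hcore
  have hfix' : ∀ a ∈ A, a ≠ 1 → ∀ u ∈ Q, Commute a u → u = 1 := fun a ha ha1 u hu hc =>
    Subgroup.mem_bot.1 (hfix a ha ha1 ▸
      Subgroup.mem_inf.2 ⟨hu, Subgroup.mem_centralizer_singleton_iff.2 hc.symm⟩)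
  have hQord : ∀ u ∈ Q, (orderOf u).Coprime (Nat.card A) := fun u hu => by
    obtain ⟨k, hk⟩ := hQp ⟨u, hu⟩
    have hk' : u ^ p ^ k = 1 := congrArg Subtype.val hk
    exact (hAp.symm.pow_left k).coprime_dvd_left (orderOf_dvd_of_pow_eq_one hk')
  -- an element outside `Q A` of order prime to `|A|`
  have hidx1 : (Q ⊔ A).index ≠ 1 := fun h => hne (Subgroup.index_eq_one.1 h)
  obtain ⟨s, hs, hsd⟩ := Nat.exists_prime_and_dvd hidx1
  haveI := Fact.mk hs
  have hsp : s ∣ p := hs.dvd_of_dvd_pow (hidx ▸ hsd)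
  obtain ⟨x, hxS, hx⟩ : ∃ x, x ∈ (default : Sylow s G) ∧ x ∉ Q ⊔ A := by
    by_contra hall
    push Not at hall
    exact (default : Sylow s G).not_dvd_index (hsd.trans (Subgroup.index_dvd_of_le hall))
  obtain ⟨j, hj⟩ := exists_orderOf_prime_pow (default : Sylow s G).2 hxS
  have hxA : (orderOf x).Coprime (Nat.card A) := by
    rw [hj]; exact ((hAp.coprime_dvd_right hsp).symm).pow_left j
  have haA' : orderOf a ∣ Nat.card A := Subgroup.orderOf_dvd_natCard A haA
  by_contra hall
  push Not at hall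
  have hnil : ¬ Group.IsNilpotent G := fun hnil => hq01 (hfix' a haA ha1 q0 hq0
    (Transfer.nilpotent_commute_of_coprime hnil ((hQord q0 hq0).coprime_dvd_right haA').symm))
  haveI : Nontrivial G := nontrivial_of_ne q0 1 hq01
  obtain ⟨V, hV⟩ := Fitting.exists_isMinNormal (G := G)
  obtain ⟨r, hr, hel⟩ := hV.exists_isElementaryAbelian_of_isSolvable
  haveI := Fact.mk hr
  have hcore_r : pCore r G ≠ ⊥ := fun h => hV.2.1 (le_bot_iff.1
    ((Thompson.le_pCore hV.1 (Fitting.isPGroup_of_isElementaryAbelian hel)).trans h.le))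
  obtain ⟨T, hT⟩ : ∃ T : Sylow r G, (T : Subgroup G).Normal := by
    by_contra hT
    exact hall r hr ⟨hcore_r, fun T hT' => hT ⟨T, hT'⟩⟩
  obtain ⟨-, -, E, -, -, -, -, -, hquot⟩ := frobenius_of_normal_sylow hCN hnil T
    (fun h => hcore_r (le_bot_iff.1 ((Thompson.pCore_le_sylow T).trans h.le))) hT
  set K := fittingHall G with hK
  have hKnil : Group.IsNilpotent K := BGUniq.fittingHall_isNilpotent G
  have hKcop := BGUniq.fittingHall_coprime G
  -- every prime divisor of `|K|` divides `p`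
  have hKp : ∀ l : ℕ, l.Prime → l ∣ Nat.card K → l ∣ p := by
    intro l hl hlK
    by_contra hlp
    haveI := Fact.mk hl
    have hlQ : ¬ l ∣ Nat.card Q := fun hd => by
      obtain ⟨⟨u, hu⟩, huo⟩ := exists_prime_orderOf_dvd_card' (G := Q) l hd
      obtain ⟨k, hk⟩ := hQp ⟨u, hu⟩
      have := orderOf_dvd_of_pow_eq_one hk
      rw [huo] at this
      exact hlp (hl.dvd_of_dvd_pow this)
    have hlA : l ∣ Nat.card A := by
      have h1 : l ∣ Nat.card G := hlK.trans (Subgroup.card_subgroup_dvd_card K)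
      rw [← (Q ⊔ A).card_mul_index, hidx] at h1
      rcases hl.dvd_mul.1 h1 with h2 | h2
      · have h3 : l ∣ Nat.card A * Nat.card Q := h2.trans
          (by rw [sup_comm]; exact Thompson.card_sup_dvd_mul A Q)
        exact (hl.dvd_mul.1 h3).resolve_right hlQ
      · exact absurd (hl.dvd_of_dvd_pow h2) hlp
    obtain ⟨⟨b, hbA⟩, hbo⟩ := exists_prime_orderOf_dvd_card' (G := A) l hlA
    rw [Subgroup.orderOf_mk] at hbo
    have hb1 : b ≠ 1 := fun h => hl.ne_one (by rw [← hbo, h, orderOf_one])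
    have hbK : b ∈ K := BGUniq.mem_of_pow_mem_of_coprime (K.pow_index_mem b)
      (show b ^ l ∈ K by rw [← hbo, pow_orderOf_eq_one]; exact K.one_mem)
      ((hl.coprime_iff_not_dvd.2 fun hd => hl.ne_one (Nat.eq_one_of_dvd_coprimes hKcop hlK hd)).symm)
    have key : ∀ u ∈ Q, u ∈ K → u = 1 := fun u hu huK => hfix' b hbA hb1 u hu
      (commute_of_coprime_orders hKnil hbK huK
        ((hQord u hu).coprime_dvd_right (Subgroup.orderOf_dvd_natCard A hbA)).symm)
    refine hq01 (hfix' b hbA hb1 q0 hq0 ?_)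
    refine mul_inv_eq_iff_eq_mul.1 (mul_inv_eq_one.1 (key (b * q0 * b⁻¹ * q0⁻¹) ?_ ?_))
    · exact Q.mul_mem (Thompson.instPCoreNormal.conj_mem q0 hq0 b) (Q.inv_mem hq0)
    · have := K.mul_mem hbK (Subgroup.Normal.conj_mem (inferInstance : K.Normal) _
        (K.inv_mem hbK) q0)
      simpa [mul_assoc] using this
  have hKQ : K ≤ Q := Thompson.le_pCore inferInstance fun u => by
    refine ⟨orderOf u, orderOf_dvd_iff_pow_eq_one.1 ?_⟩
    rw [Nat.dvd_iff_prime_pow_dvd_dvd]
    intro l k hl hlk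
    rcases Nat.eq_zero_or_pos k with rfl | hk
    · simp
    refine (pow_dvd_pow_of_dvd (hKp l hl (((dvd_pow_self l hk.ne').trans hlk).trans
      (orderOf_dvd_natCard u))) k).trans (pow_dvd_pow p ?_)
    exact (Nat.lt_pow_self hl.one_lt).le.trans (Nat.le_of_dvd (orderOf_pos u) hlk)
  refine hout x hx a haA ha1 (hKQ ((QuotientGroup.eq_one_iff _).1 ?_))
  have hc : Commute (QuotientGroup.mk' K x) (QuotientGroup.mk' K a) :=
    Transfer.nilpotent_commute_of_coprime hquot
      ((hxA.coprime_dvd_right haA').coprime_dvd_left (orderOf_map_dvd _ x) |>.coprime_dvd_right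
        (orderOf_map_dvd _ a))
  show QuotientGroup.mk' K (x * a * x⁻¹ * a⁻¹) = 1
  rw [map_mul, map_mul, map_mul, map_inv, map_inv, hc.eq, mul_inv_cancel_right, mul_inv_cancel]

variable [Finite G] (hG : IsMinSimpleOddOrder G) (hCN : IsCNGroup G)
include hG hCN

theorem no_threeStep (H : Subgroup G) (p : ℕ) : ¬ IsThreeStepGroup p H := by
  intro h
  rcases eq_or_ne H ⊤ with rfl | hH
  · obtain ⟨hcore, A, -, -, -, -, hn, hne, -⟩ := h
    have hn' := Subgroup.Normal.map hn (⊤ : Subgroup G).subtype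
      (fun x => ⟨⟨x, Subgroup.mem_top x⟩, rfl⟩)
    rcases BGSigma.normal_eq_bot_or_top hG hn' with h1 | h1
    · rw [Subgroup.map_eq_bot_iff_of_injective _ (Subgroup.subtype_injective _)] at h1
      exact hcore (le_bot_iff.1 (le_sup_left.trans h1.le))
    · refine hne (Subgroup.map_injective (Subgroup.subtype_injective _) (h1.trans ?_))
      rw [← MonoidHom.range_eq_map, Subgroup.range_subtype]
  · haveI := BGSigma.isSolvable_of_ne_top hG hH
    obtain ⟨r, hr, hbad⟩ := exists_bad_of_threeStep (isCN_subgroup hCN H) h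
    haveI := Fact.mk hr
    exact not_bad hG hCN hH hbad

end Cfsg.Agent.CN7
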